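import Groth.Agent.Lib.AdicFSFlat.Flat
import Groth.Agent.Lib.GRingComplete.Tower
import Groth.Agent.Lib.AdicLim.Finite
import Mathlib.Algebra.TrivSqZeroExt.Basic

/-!
# Derivations lift along complete formally smooth algebras; regularity of their field base changes
-/

set_option autoImplicit false
set_option linter.style.haveILetI false
universe u

open IsLocalRing TensorProduct Polynomial GrothLib.J2 GrothLib.GRingComplete

namespace GrothLib.AdicFSFlat

/-- Lifting into square-zero extensions which are finite over the algebra. -/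
theorem exists_lift_sqZero {R Q T E : Type u} [CommRing R] [CommRing Q] [IsLocalRing Q] [IsNoetherianRing Q]
    [IsAdicComplete (maximalIdeal Q) Q] [Algebra R Q] (h : CAlgX.IsAdicFormallySmooth R Q (maximalIdeal Q))
    [CommRing T] [CommRing E] [Algebra Q E] [Module.Finite Q E] (π : E →+* T) (hπ : Function.Surjective π)
    (hsq : ∀ x y, π x = 0 → π y = 0 → x * y = 0) (φ : R →+* E) (g : Q →+* T)
    (hg : ∀ c, π (algebraMap Q E c) = g c) (hφ : ∀ r, π (φ r) = g (algebraMap R Q r)) :
    ∃ Φ : Q →+* E, (∀ r, Φ (algebraMap R Q r) = φ r) ∧ ∀ c, π (Φ c) = g c := by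
  letI : Algebra R E := φ.toAlgebra
  let J := RingHom.ker π
  have hJ2 : J ^ 2 = ⊥ := by
    rw [sq, eq_bot_iff, Ideal.mul_le]
    intro x hx y hy
    exact Ideal.mem_bot.2 (hsq x y hx hy)
  let 𝔠 := (maximalIdeal Q).map (algebraMap Q E)
  haveI : IsAdicComplete (maximalIdeal Q) E := GrothLib.AdicLim.isAdicComplete_of_finite (maximalIdeal Q) E
  haveI : IsAdicComplete 𝔠 E := (IsAdicComplete.map_algebraMap_iff _ _).2 inferInstance
  haveI : IsHausdorff (maximalIdeal Q) (E ⧸ J) := IsHausdorff.of_le_jacobson _ _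
    (IsLocalRing.jacobson_eq_maximalIdeal ⊥ bot_ne_top).ge
  haveI : IsHausdorff (𝔠.map (Ideal.Quotient.mk J)) (E ⧸ J) := by
    rw [Ideal.map_map, show (Ideal.Quotient.mk J).comp (algebraMap Q E) = algebraMap Q (E ⧸ J) from rfl,
      IsHausdorff.map_algebraMap_iff]
    infer_instance
  let u : Q →ₐ[R] E ⧸ J :=
    { (Ideal.Quotient.mk J).comp (algebraMap Q E) with
      commutes' := fun r => Ideal.Quotient.eq.2 (by
        show algebraMap Q E (algebraMap R Q r) - φ r ∈ RingHom.ker π
        rw [RingHom.mem_ker, map_sub, hg, hφ, sub_self]) }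
  obtain ⟨v, -, hvu⟩ := GrothLib.AdicFS.exists_lift_adicComplete (𝔞 := (⊥ : Ideal R)) (𝔟 := maximalIdeal Q)
    (𝔠 := 𝔠) (J := J) ((GrothLib.AdicFS.isAdicFormallySmooth_iff _).1 h) ⟨1, by simp⟩
    ⟨2, hJ2.le.trans bot_le⟩ u ⟨1, by
      rw [pow_one, Ideal.map_map]⟩
  refine ⟨v.toRingHom, fun r => v.commutes r, fun c => ?_⟩
  have h1 : v c - algebraMap Q E c ∈ J := Ideal.Quotient.eq.1 (AlgHom.congr_fun hvu c)
  rw [RingHom.mem_ker, map_sub, hg, sub_eq_zero] at h1
  exact h1

/-- Derivations of finite algebras lift to the base change. -/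
def LiftsDerivations (R Q : Type u) [CommRing R] [CommRing Q] [Algebra R Q] : Prop :=
  ∀ (S : Type u) [CommRing S] [Algebra R S], Module.Finite R S → ∀ D : Derivation ℤ S S,
    ∃ Δ : Derivation ℤ (S ⊗[R] Q) (S ⊗[R] Q), ∀ s, Δ (s ⊗ₜ 1) = D s ⊗ₜ 1

/-- Derivations extend to pushouts along a completion. -/
theorem exists_derivation_of_pushout_fs {R S : Type u} [CommRing R] [IsNoetherianRing R] [CommRing S] [Algebra R S]
    {Q : Type u} [CommRing Q] [IsLocalRing Q] [IsNoetherianRing Q] [IsAdicComplete (maximalIdeal Q) Q]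
    [Algebra R Q] (hQ : CAlgX.IsAdicFormallySmooth R Q (maximalIdeal Q)) (D : Derivation ℤ S S) {T : Type u} [CommRing T]
    [Algebra Q T]
    [Module.Finite Q T]
    (ι : S →+* T)
    (hι : ∀ x : R, ι (algebraMap R S x) =
      algebraMap Q T (algebraMap R _ x))
    (hlift : ∀ (E : Type u) [CommRing E] (f : S →+* E)
      (g : Q →+* E),
      (∀ x, f (algebraMap R S x) = g (algebraMap R _ x)) →
        ∃ Ψ : T →+* E, (∀ s, Ψ (ι s) = f s) ∧ ∀ c, Ψ (algebraMap _ T c) = g c)
    (hext : ∀ F : T →+* T, (∀ s, F (ι s) = ι s) →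
      (∀ c : Q,
        F (algebraMap _ T c) = algebraMap _ T c) → ∀ t, F t = t) :
    ∃ Δ : Derivation ℤ T T, ∀ s, Δ (ι s) = ι (D s) := by
  let E := TrivSqZeroExt T T
  let fS : S →+* E :=
    { toFun := fun s => ((ι s, ι (D s)) : E)
      map_one' := by
        apply TrivSqZeroExt.ext
        · exact map_one ι
        · show ι (D 1) = 0
          rw [Derivation.map_one_eq_zero, map_zero]
      map_mul' := fun x y => by
        apply TrivSqZeroExt.ext
        · exact map_mul ι x y
        · show ι (D (x * y)) = ι x • ι (D y) + MulOpposite.op (ι y) • ι (D x)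
          rw [Derivation.leibniz, map_add, smul_eq_mul, smul_eq_mul, map_mul, map_mul, op_smul_eq_smul,
            smul_eq_mul, smul_eq_mul]
      map_zero' := by
        apply TrivSqZeroExt.ext
        · exact map_zero ι
        · show ι (D 0) = 0
          rw [map_zero, map_zero]
      map_add' := fun x y => by
        apply TrivSqZeroExt.ext
        · exact map_add ι x y
        · show ι (D (x + y)) = ι (D x) + ι (D y)
          rw [map_add, map_add] }
  have hfS : ∀ s, (fS s).fst = ι s ∧ (fS s).snd = ι (D s) := fun s => ⟨rfl, rfl⟩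
  have hfst : ∀ x : R, (fS (algebraMap R S x)).fst = algebraMap Q T (algebraMap R Q x) := fun x => by
    rw [(hfS _).1]; exact hι x
  haveI : Module.Finite T E := inferInstanceAs (Module.Finite T (T × T))
  haveI : Module.Finite Q E := Module.Finite.trans T E
  obtain ⟨Φ, hΦA, hΦfst⟩ := exists_lift_sqZero hQ (E := E) (T := T) (TrivSqZeroExt.fstHom T T T).toRingHom
    (fun t => ⟨TrivSqZeroExt.inl t, TrivSqZeroExt.fst_inl T t⟩)
    (fun x y hx hy => by
      have hx' : x.fst = 0 := hx
      have hy' : y.fst = 0 := hy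
      apply TrivSqZeroExt.ext
      · show x.fst * y.fst = 0
        rw [hx', zero_mul]
      · show x.fst • y.snd + MulOpposite.op y.fst • x.snd = 0
        rw [hx', hy', zero_smul, MulOpposite.op_zero, zero_smul, add_zero])
    (fS.comp (algebraMap R S)) (algebraMap Q T) (fun c => rfl) hfst
  obtain ⟨Ψ, hΨS, hΨC⟩ := hlift E fS Φ fun x => by
    rw [hΦA]
    rfl
  have hfstΨ : ∀ t, (Ψ t).fst = t := hext ((TrivSqZeroExt.fstHom T T T).toRingHom.comp Ψ)
    (fun s => by show (Ψ (ι s)).fst = ι s; rw [hΨS, (hfS s).1])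
    (fun c => by
      show (Ψ (algebraMap Q T c)).fst = algebraMap Q T c
      rw [hΨC]
      exact hΦfst c)
  let Δ0 : T →+ T := AddMonoidHom.mk' (fun t => (Ψ t).snd) fun x y => by rw [map_add, TrivSqZeroExt.snd_add]
  refine ⟨Derivation.mk' Δ0.toIntLinearMap fun x y => ?_, fun s => ?_⟩
  · show (Ψ (x * y)).snd = x • (Ψ y).snd + y • (Ψ x).snd
    rw [map_mul, TrivSqZeroExt.snd_mul, hfstΨ, hfstΨ, op_smul_eq_smul]
  · show (Ψ (ι s)).snd = _
    rw [hΨS, (hfS s).2]

theorem liftsDerivations_of_formallySmooth {R Q : Type u} [CommRing R] [IsNoetherianRing R] [CommRing Q]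
    [IsLocalRing Q] [IsNoetherianRing Q] [IsAdicComplete (maximalIdeal Q) Q]
    [Algebra R Q] (hQ : CAlgX.IsAdicFormallySmooth R Q (maximalIdeal Q)) : LiftsDerivations R Q := by
  intro S _ _ _ D
  letI : Algebra Q (S ⊗[R] Q) := Algebra.TensorProduct.rightAlgebra
  haveI : Module.Finite Q (S ⊗[R] Q) :=
    Module.Finite.equiv ({ Algebra.TensorProduct.comm R Q S with
      commutes' := fun c => rfl } : (Q ⊗[R] S) ≃ₐ[Q] S ⊗[R] Q).toLinearEquiv
  refine exists_derivation_of_pushout_fs hQ D (T := S ⊗[R] Q) Algebra.TensorProduct.includeLeftRingHom ?_ ?_ ?_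
  · intro x
    show algebraMap R S x ⊗ₜ[R] (1 : Q) = (1 : S) ⊗ₜ[R] algebraMap R Q x
    rw [Algebra.algebraMap_eq_smul_one, TensorProduct.smul_tmul, ← Algebra.algebraMap_eq_smul_one]
  · intro E _ f g h
    obtain ⟨Ψ, hΨ⟩ := exists_tensor_ringHom (R := R) f g h
    refine ⟨Ψ, fun s => ?_, fun c => ?_⟩
    · show Ψ (s ⊗ₜ[R] (1 : Q)) = f s
      rw [hΨ, map_one, mul_one]
    · show Ψ ((1 : S) ⊗ₜ[R] c) = g c
      rw [hΨ, map_one, one_mul]
  · intro F hs hc t
    induction t using TensorProduct.induction_on with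
    | zero => simp
    | add x y hx hy => rw [map_add, hx, hy]
    | tmul s c =>
      have e : s ⊗ₜ[R] c = (s ⊗ₜ[R] (1 : Q)) * ((1 : S) ⊗ₜ[R] c) := by
        rw [Algebra.TensorProduct.tmul_mul_tmul, mul_one, one_mul]
      rw [e, map_mul]
      exact congr_arg₂ (· * ·) (hs s) (hc c)

/-- Adjoining a `p`-th root over a completion. -/
theorem isRegularRing_tensor_step_lifts {R S E E' : Type u} [CommRing R] [IsNoetherianRing R] [CommRing S]
    [Algebra R S] [Module.Finite R S] [Field E] [Algebra R E] [Algebra S E] [IsScalarTower R S E]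
    [IsFractionRing S E] [Field E'] [Algebra E E'] [Algebra R E'] [IsScalarTower R E E']
    {Q : Type u} [CommRing Q] [Algebra R Q] (hQ : LiftsDerivations R Q) (p : ℕ) (hp : p ≠ 0) (a : S) (D : Derivation ℤ S S) (hD : D a ≠ 0)
    (e : AdjoinRoot ((X : E[X]) ^ p - Polynomial.C (algebraMap S E a)) ≃ₐ[E] E')
    [IsRegularRing (E ⊗[R] Q)] :
    IsRegularRing (E' ⊗[R] Q) := by
  obtain ⟨Δ, hΔ⟩ := hQ S ‹Module.Finite R S› D
  letI : Algebra S E' := ((algebraMap E E').comp (algebraMap S E)).toAlgebra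
  haveI : IsScalarTower S E E' := IsScalarTower.of_algebraMap_eq fun _ => rfl
  haveI : IsScalarTower R S E' := IsScalarTower.of_algebraMap_eq fun x => by
    show algebraMap R E' x = algebraMap E E' (algebraMap S E (algebraMap R S x))
    rw [← IsScalarTower.algebraMap_apply R S E, ← IsScalarTower.algebraMap_apply]
  haveI : IsRegularRing (E ⊗[S] (S ⊗[R] Q)) :=
    IsRegularRing.of_ringEquiv (R := E ⊗[R] Q)
      (Algebra.TensorProduct.cancelBaseChange R S E E _).symm.toRingEquiv
  have := isRegularRing_tensor_step'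
    (C := S ⊗[R] Q) p hp a D hD Δ (hΔ a) e
  exact IsRegularRing.of_ringEquiv
    (R := E' ⊗[S] (S ⊗[R] Q))
    (Algebra.TensorProduct.cancelBaseChange R S E' E' _).toRingEquiv

set_option maxHeartbeats 800000 in
/-- The purely inseparable case. -/
theorem isRegularRing_tensor_insep_lifts {R K L : Type u} [CommRing R] [IsDomain R] [IsNoetherianRing R]
    [Field K] [Algebra R K] [IsFractionRing R K] [Field L] [Algebra K L] [Algebra R L] [IsScalarTower R K L]
    [FiniteDimensional K L] [IsPurelyInseparable K L] (p : ℕ) [hp : Fact p.Prime] [CharP K p]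
    (hder : DetectsPowers R K p) {Q : Type u} [CommRing Q] [Algebra R Q] (hQ : LiftsDerivations R Q)
    [IsRegularRing Q] [IsNoetherianRing Q] :
    IsRegularRing (L ⊗[R] Q) := by
  haveI : ExpChar K p := ExpChar.prime hp.out
  haveI : CharP L p := charP_of_injective_ringHom (algebraMap K L).injective p
  haveI : ExpChar L p := ExpChar.prime hp.out
  let Good : Set (IntermediateField K L) := {E | IsRegularRing (E ⊗[R] Q)}
  have hbot : (⊥ : IntermediateField K L) ∈ Good := by
    haveI := isRegularRing_fractions_tensor R K Q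
    exact IsRegularRing.of_ringEquiv (R := K ⊗[R] Q)
      (Algebra.TensorProduct.congr ((IntermediateField.botEquiv K L).symm.restrictScalars R)
        (AlgEquiv.refl (R := R) (A₁ := Q))).toRingEquiv
  haveI : WellFoundedGT (IntermediateField K L) :=
    StrictMono.wellFoundedGT (f := fun F : IntermediateField K L => Subalgebra.toSubmodule F.toSubalgebra)
      fun a b h => show Subalgebra.toSubmodule a.toSubalgebra < Subalgebra.toSubmodule b.toSubalgebra from h
  obtain ⟨E, hE, hmax⟩ := wellFounded_gt.has_min Good ⟨⊥, hbot⟩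
  have hE' : IsRegularRing (E ⊗[R] Q) := hE
  by_cases htop : E = ⊤
  · subst htop
    exact IsRegularRing.of_ringEquiv (R := (⊤ : IntermediateField K L) ⊗[R] Q)
      (Algebra.TensorProduct.congr (IntermediateField.topEquiv.restrictScalars R)
        (AlgEquiv.refl (R := R) (A₁ := Q))).toRingEquiv
  exfalso
  obtain ⟨z, hz⟩ : ∃ z : L, z ∉ E := by
    by_contra hcon
    push Not at hcon
    exact htop (eq_top_iff.2 fun x _ => hcon x)
  have hex : ∃ n, z ^ p ^ n ∈ E := by
    obtain ⟨n, w, hw⟩ := IsPurelyInseparable.pow_mem K p z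
    exact ⟨n, hw ▸ E.algebraMap_mem w⟩
  classical
  have hn0 : Nat.find hex ≠ 0 := fun h => hz (by simpa [h] using Nat.find_spec hex)
  obtain ⟨n, hn⟩ := Nat.exists_eq_succ_of_ne_zero hn0
  set x := z ^ p ^ n
  have hx : x ∉ E := Nat.find_min hex (by omega)
  have hxp : x ^ p ∈ E := by
    rw [← pow_mul, ← pow_succ, ← Nat.succ_eq_add_one, ← hn]
    exact Nat.find_spec hex
  obtain ⟨S, hSfin, hSE⟩ := exists_model (R := R) E
  subst hSE
  obtain ⟨c, hc, d, hd, hcd⟩ := exists_div_of_mem_fracField S hxp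
  set E := fracField (K := K) S
  have hd0 : d ≠ 0 := by
    rintro rfl
    rw [div_zero, eq_comm, pow_eq_zero_iff hp.out.ne_zero] at hcd
    exact hx (hcd ▸ zero_mem _)
  let y := x * d
  have hyE : y ∉ E := fun h => hx (by simpa [y, hd0] using div_mem h (subset_fracField (K := K) S hd))
  obtain ⟨q, hq⟩ : ∃ q, p = q + 1 := ⟨p - 1, (Nat.sub_add_cancel hp.out.one_le).symm⟩
  let a : S := ⟨c * d ^ q, mul_mem hc (pow_mem hd q)⟩
  have hya : y ^ p = (a : L) := by
    show (x * d) ^ p = c * d ^ q
    rw [mul_pow, ← hcd, hq, pow_succ']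
    field_simp
  have hno : ∀ b ∈ E, b ^ p ≠ (a : L) := by
    intro b hb h
    exact hyE (frobenius_inj L p (show frobenius L p b = frobenius L p y from h.trans hya.symm) ▸ hb)
  obtain ⟨D, hD⟩ := hder L ‹_› S hSfin a hno
  letI : Algebra S E := (toFracField (K := K) S).toAlgebra
  haveI := isFractionRing_fracField (K := K) S
  haveI : IsScalarTower R S E := IsScalarTower.of_algebraMap_eq fun _ => Subtype.ext rfl
  haveI := hSfin
  let aE : E := algebraMap S E a
  have hirr : Irreducible ((X : E[X]) ^ p - C aE) :=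
    X_pow_sub_C_irreducible_of_prime hp.out fun b hb => hno b b.2 (congrArg Subtype.val hb :)
  have hmin : (X : E[X]) ^ p - C aE = minpoly E y :=
    minpoly.eq_of_irreducible_of_monic hirr (by
      rw [map_sub, map_pow, aeval_X, aeval_C, hya]; exact sub_self _) (monic_X_pow_sub_C _ hp.out.ne_zero)
  haveI : IsScalarTower R E L := IsScalarTower.of_algebraMap_eq fun _ => rfl
  let E' := IntermediateField.adjoin E {y}
  have hint : IsIntegral E y := (Algebra.IsIntegral.isIntegral (R := K) y).tower_top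
  let e : AdjoinRoot ((X : E[X]) ^ p - C (algebraMap S E a)) ≃ₐ[E] E' :=
    (AdjoinRoot.mapAlgEquiv (AlgEquiv.refl : E ≃ₐ[E] E) _ _ (Associated.of_eq (by
      rw [← hmin]; simp [aE]))).trans (IntermediateField.adjoinRootEquivAdjoin E hint)
  haveI : IsRegularRing (E' ⊗[R] Q) := isRegularRing_tensor_step_lifts hQ p hp.out.ne_zero a D hD e
  refine hmax (E'.restrictScalars K) ‹IsRegularRing (E' ⊗[R] Q)› (lt_of_le_of_ne ?_ fun he => hyE ?_)
  · intro w hw
    exact E'.algebraMap_mem ⟨w, hw⟩
  · rw [he]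
    exact IntermediateField.mem_adjoin_simple_self E y

/-- Regularity of formal fibres after any finite extension of the fraction field. -/
theorem isRegularRing_tensor_of_detects_lifts {R K : Type u} [CommRing R] [IsDomain R] [IsNoetherianRing R]
    [Field K] [Algebra R K] [IsFractionRing R K] (p : ℕ) [Fact p.Prime] [CharP K p]
    (hder : DetectsPowers R K p) {Q : Type u} [CommRing Q] [Algebra R Q] (hQ : LiftsDerivations R Q)
    [IsRegularRing Q]
    (L : Type u) [Field L] [Algebra K L] [Algebra R L] [IsScalarTower R K L] [FiniteDimensional K L] :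
    IsRegularRing (L ⊗[R] Q) := by
  haveI := isRegularRing_fractions_tensor R K Q
  haveI : IsNoetherianRing (K ⊗[R] Q) := inferInstance
  haveI := GrothLib.GeomReg.isRegularRing_tensor_of_purelyInseparable (k := K) (S := K ⊗[R] Q)
    (fun k' _ _ hfin hins => by
      letI : Algebra R k' := ((algebraMap K k').comp (algebraMap R K)).toAlgebra
      haveI : IsScalarTower R K k' := IsScalarTower.of_algebraMap_eq fun _ => rfl
      haveI := hfin
      haveI := hins
      haveI := isRegularRing_tensor_insep_lifts (L := k') p hder hQ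
      exact IsRegularRing.of_ringEquiv (R := k' ⊗[R] Q)
        (Algebra.TensorProduct.cancelBaseChange R K k' k' Q).symm.toRingEquiv) L
  exact IsRegularRing.of_ringEquiv (R := L ⊗[K] (K ⊗[R] Q))
    (Algebra.TensorProduct.cancelBaseChange R K L L Q).toRingEquiv

end GrothLib.AdicFSFlat
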