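import Groth.Agent.Lib.AdicFSFlat.Lift
import Groth.Agent.Lib.AdicFSFlat.Derivation
import Groth.Agent.Lib.AdicFSLoc.Basic
import Groth.Agent.Lib.HLVT.Subring
import Groth.Agent.Lib.GRingComplete.Main
import Mathlib.RingTheory.TensorProduct.Quotient
import Mathlib.RingTheory.Flat.EquationalCriterion

/-!
# André: formally smooth maps of complete Noetherian local rings are regular
-/

set_option autoImplicit false
set_option linter.style.haveILetI false
universe u

open IsLocalRing TensorProduct

namespace GrothLib.AdicFSFlat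

/-- From the two-topology form to the discrete base, for a local homomorphism. -/
theorem isAdicFormallySmooth_of_adic {A B : Type u} [CommRing A] [CommRing B] [IsLocalRing A] [IsLocalRing B]
    [Algebra A B] [IsLocalHom (algebraMap A B)]
    (h : EGA41.IsFormallySmoothAdic A (maximalIdeal A) B (maximalIdeal B)) :
    CAlgX.IsAdicFormallySmooth A B (maximalIdeal B) := by
  intro C _ _ J hJ ψ ⟨t, ht⟩
  refine h C J ⟨2, hJ⟩ ⟨t * 2, ?_⟩ ψ ⟨t, ht⟩
  rw [pow_mul, Ideal.map_pow, eq_bot_iff, ← hJ]
  refine Ideal.pow_right_mono (Ideal.map_le_iff_le_comap.2 fun a ha => ?_) 2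
  rw [Ideal.mem_comap, ← Ideal.Quotient.eq_zero_iff_mem]
  show algebraMap A (C ⧸ J) a = 0
  rw [← ψ.commutes]
  refine ht _ (Ideal.pow_right_mono (((local_hom_TFAE (algebraMap A B)).out 0 2 rfl rfl).mp inferInstance) t ?_)
  rw [← Ideal.map_pow]
  exact Ideal.mem_map_of_mem _ ha

/-- The quotient by the extension of an ideal of the base. -/
theorem adicFormallySmooth_quotient {A B : Type u} [CommRing A] [CommRing B] [IsLocalRing B] [Algebra A B]
    (h : CAlgX.IsAdicFormallySmooth A B (maximalIdeal B)) (I : Ideal A)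
    [IsLocalRing (B ⧸ I.map (algebraMap A B))] :
    CAlgX.IsAdicFormallySmooth (A ⧸ I) (B ⧸ I.map (algebraMap A B))
      (maximalIdeal (B ⧸ I.map (algebraMap A B))) := by
  let e1 : (B ⧸ I.map (algebraMap A B)) ≃ₐ[A] (A ⧸ I) ⊗[A] B :=
    ((Algebra.TensorProduct.quotIdealMapEquivTensorQuot B I).restrictScalars A).trans
      (Algebra.TensorProduct.comm A B (A ⧸ I))
  let e2 : (B ⧸ I.map (algebraMap A B)) ≃ₐ[A ⧸ I] (A ⧸ I) ⊗[A] B :=
    AlgEquiv.ofRingEquiv (f := e1.toRingEquiv) fun c => by
      obtain ⟨a, rfl⟩ := Ideal.Quotient.mk_surjective c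
      rw [← Ideal.Quotient.algebraMap_eq, ← IsScalarTower.algebraMap_apply, ← IsScalarTower.algebraMap_apply]
      exact e1.commutes a
  refine adicFormallySmooth_of_algEquiv e2.symm (Ideal.map_le_iff_le_comap.2 ?_)
    (GrothLib.AdicFSLoc.baseChange h (A ⧸ I))
  rw [Ideal.map_le_iff_le_comap]
  intro x hx
  have h1 : e2.symm (Algebra.TensorProduct.includeRight x) = Ideal.Quotient.mk _ x := by
    rw [AlgEquiv.symm_apply_eq]
    show _ = e1 (Ideal.Quotient.mk _ x)
    simp [e1]
  show e2.symm (Algebra.TensorProduct.includeRight x) ∈ maximalIdeal _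
  rw [h1, ← GrothLib.RegLoc.map_maximalIdeal_quotient]
  exact Ideal.mem_map_of_mem _ hx

/-- A lift of the closed fibre of a flat complete algebra is an isomorphism after base change. -/
theorem bijective_of_lift {R D Q B : Type u} [CommRing R] [CommRing D] [CommRing Q] [CommRing B]
    [IsLocalRing R] [IsLocalRing D] [IsLocalRing Q] [IsLocalRing B] [IsNoetherianRing D] [IsNoetherianRing Q]
    [IsNoetherianRing B] [IsAdicComplete (maximalIdeal Q) Q] [Algebra R D] [Module.Finite R D] [Algebra R Q]
    [IsLocalHom (algebraMap R Q)] [Algebra D B] [IsLocalHom (algebraMap D B)] [Algebra R B] [IsScalarTower R D B]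
    [Module.Flat D B] (hres : Function.Surjective ((residue D).comp (algebraMap R D)))
    (φ : Q →ₐ[R] B)
    (hφ : ∀ b : B, ∃ q, φ q - b ∈ (maximalIdeal D).map (algebraMap D B))
    (hker : ∀ q, φ q ∈ (maximalIdeal D).map (algebraMap D B) → q ∈ (maximalIdeal R).map (algebraMap R Q)) :
    ∃ e : D ⊗[R] Q ≃ₐ[D] B, ∀ q, e (1 ⊗ₜ q) = φ q := by
  classical
  haveI : IsLocalHom φ.toRingHom := by
    refine ⟨fun q hq => by_contra fun hnu => ?_⟩
    obtain ⟨q', hq'⟩ := hφ ↑hq.unit⁻¹
    have h1 : φ (q * q' - 1) ∈ (maximalIdeal D).map (algebraMap D B) := by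
      have := Ideal.mul_mem_left _ (φ q) hq'
      rw [mul_sub, ← map_mul] at this
      rw [map_sub, map_one]
      convert this using 2
      exact hq.mul_val_inv.symm
    have h2 := hker _ h1
    have h3 : q * q' - 1 ∈ maximalIdeal Q :=
      (((local_hom_TFAE (algebraMap R Q)).out 0 2 rfl rfl).mp inferInstance) h2
    have h4 := sub_mem (Ideal.mul_mem_right q' (maximalIdeal Q) hnu) h3
    rw [sub_sub_cancel] at h4
    exact (maximalIdeal.isMaximal Q).ne_top ((Ideal.eq_top_iff_one _).2 h4)
  have hmRD : (maximalIdeal R).map (algebraMap R D) ≤ maximalIdeal D := by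
    refine Ideal.map_le_iff_le_comap.2 fun r hr hu => ?_
    have hloc : IsLocalHom (algebraMap R D) := by
      refine ⟨fun a ha => isUnit_of_map_unit (algebraMap R Q) a (isUnit_of_map_unit φ.toRingHom _ ?_)⟩
      show IsUnit (φ (algebraMap R Q a))
      rw [φ.commutes, IsScalarTower.algebraMap_apply R D B]
      exact ha.map _
    exact hr (isUnit_of_map_unit (algebraMap R D) r hu)
  let T := D ⊗[R] Q
  let Φ : T →ₐ[D] B := Algebra.TensorProduct.lift (Algebra.ofId D B) φ (fun _ _ => mul_comm _ _)
  have hΦ : ∀ q, Φ (1 ⊗ₜ q) = φ q := fun q => by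
    show (Algebra.TensorProduct.lift (Algebra.ofId D B) φ _) (1 ⊗ₜ q) = _
    rw [Algebra.TensorProduct.lift_tmul, map_one, one_mul]
  set I : Ideal T := (maximalIdeal D).map (algebraMap D T) with hI
  have hT : ∀ z : T, ∃ q : Q, z - (1 : D) ⊗ₜ[R] q ∈ I := by
    intro z
    induction z using TensorProduct.induction_on with
    | zero => exact ⟨0, by simp⟩
    | add x y hx hy =>
      obtain ⟨a, ha⟩ := hx
      obtain ⟨b, hb⟩ := hy
      exact ⟨a + b, by rw [TensorProduct.tmul_add, add_sub_add_comm]; exact add_mem ha hb⟩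
    | tmul c q =>
      obtain ⟨r, hr⟩ := hres (residue D c)
      refine ⟨r • q, ?_⟩
      have h1 : c - algebraMap R D r ∈ maximalIdeal D := Ideal.Quotient.eq.1 hr.symm
      have e : c ⊗ₜ[R] q - (1 : D) ⊗ₜ[R] (r • q) =
          algebraMap D T (c - algebraMap R D r) * ((1 : D) ⊗ₜ[R] q) := by
        rw [Algebra.TensorProduct.algebraMap_apply, Algebra.TensorProduct.tmul_mul_tmul, mul_one, one_mul,
          Algebra.algebraMap_self, RingHom.id_apply,
          TensorProduct.sub_tmul, ← TensorProduct.smul_tmul, Algebra.smul_def, mul_one]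
      rw [e]
      exact Ideal.mul_mem_right _ _ (Ideal.mem_map_of_mem _ h1)
  -- surjectivity
  have hIB : ∀ z ∈ I, Φ z ∈ (maximalIdeal D).map (algebraMap D B) := by
    intro z hz
    have := Ideal.mem_map_of_mem Φ.toRingHom hz
    rw [hI, Ideal.map_map, show Φ.toRingHom.comp (algebraMap D T) = algebraMap D B from
      RingHom.ext fun c => Φ.commutes c] at this
    exact this
  letI : Algebra Q T := Algebra.TensorProduct.rightAlgebra
  haveI : Module.Finite Q T :=
    Module.Finite.equiv ({ Algebra.TensorProduct.comm R Q D with commutes' := fun _ => rfl } :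
      (Q ⊗[R] D) ≃ₐ[Q] T).toLinearEquiv
  haveI : IsNoetherianRing T := IsNoetherianRing.of_finite Q T
  letI : Algebra Q B := φ.toRingHom.toAlgebra
  have hsurj : Function.Surjective Φ := by
    let N : Submodule Q B :=
      LinearMap.range ({ Φ.toLinearMap with
        map_smul' := fun q z => by
          show Φ (q • z) = φ q * Φ z
          rw [Algebra.smul_def, map_mul]
          congr 1
          exact hΦ q } : T →ₗ[Q] B)
    have hmem : ∀ b, b ∈ N ↔ ∃ z, Φ z = b := fun b => Iff.rfl
    have hstep : ∀ k : ℕ, ∀ b : B, ∃ z, b - Φ z ∈ ((maximalIdeal D) ^ k).map (algebraMap D B) := by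
      intro k
      induction k with
      | zero => exact fun b => ⟨0, by simp [Ideal.map_top]⟩
      | succ k ih =>
        intro b
        obtain ⟨z, hz⟩ := ih b
        suffices ∀ y ∈ ((maximalIdeal D) ^ k).map (algebraMap D B),
            ∃ z', y - Φ z' ∈ ((maximalIdeal D) ^ (k + 1)).map (algebraMap D B) by
          obtain ⟨z', hz'⟩ := this _ hz
          exact ⟨z + z', by rwa [map_add, ← sub_sub]⟩
        intro y hy
        induction hy using Submodule.span_induction with
        | mem y hy =>
          obtain ⟨c, hc, rfl⟩ := hy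
          exact ⟨algebraMap D T c, by simp⟩
        | zero => exact ⟨0, by simp⟩
        | add x y _ _ hx hy =>
          obtain ⟨z1, h1⟩ := hx
          obtain ⟨z2, h2⟩ := hy
          exact ⟨z1 + z2, by rw [map_add, add_sub_add_comm]; exact add_mem h1 h2⟩
        | smul s y hy hs =>
          obtain ⟨z1, h1⟩ := hs
          obtain ⟨q, hq⟩ := hφ s
          refine ⟨((1 : D) ⊗ₜ[R] q) * z1, ?_⟩
          have e : s • y - Φ ((1 : D) ⊗ₜ[R] q * z1) = φ q * (y - Φ z1) - (φ q - s) * y := by
            rw [map_mul, hΦ, smul_eq_mul]; ring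
          rw [e]
          refine sub_mem (Ideal.mul_mem_left _ _ h1) ?_
          rw [pow_succ', Ideal.map_mul]
          exact Ideal.mul_mem_mul hq hy
    haveI : Module.Finite R (D ⧸ (maximalIdeal R).map (algebraMap R D)) := inferInstance
    obtain ⟨k, hk⟩ : ∃ k, maximalIdeal D ^ k ≤ (maximalIdeal R).map (algebraMap R D) := by
      refine Ideal.exists_pow_le_of_le_radical_of_fg ?_ (IsNoetherian.noetherian _)
      rw [Ideal.radical_eq_sInf]
      refine le_sInf fun P hP => ?_
      haveI := hP.2
      have h1 : P.comap (algebraMap R D) = maximalIdeal R :=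
        le_antisymm (le_maximalIdeal (Ideal.IsPrime.ne_top inferInstance)) (Ideal.map_le_iff_le_comap.1 hP.1)
      haveI : (P.comap (algebraMap R D)).IsMaximal := h1 ▸ maximalIdeal.isMaximal R
      haveI : Algebra.IsIntegral R D := Algebra.IsIntegral.of_finite R D
      haveI := Ideal.isMaximal_of_isIntegral_of_isMaximal_comap (R := R) P inferInstance
      exact (IsLocalRing.eq_maximalIdeal this).ge
    have hle : ((maximalIdeal D) ^ k).map (algebraMap D B) ≤ (maximalIdeal Q).map (algebraMap Q B) := by
      refine (Ideal.map_mono hk).trans ?_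
      rw [Ideal.map_map, ← IsScalarTower.algebraMap_eq, Ideal.map_le_iff_le_comap]
      intro r hr
      rw [Ideal.mem_comap, ← φ.commutes]
      exact Ideal.mem_map_of_mem φ.toRingHom
        ((((local_hom_TFAE (algebraMap R Q)).out 0 2 rfl rfl).mp inferInstance) (Ideal.mem_map_of_mem _ hr))
    have htop : (⊤ : Submodule Q B) ≤ N ⊔ (maximalIdeal Q) • (⊤ : Submodule Q B) := by
      intro b _
      obtain ⟨z, hz⟩ := hstep k b
      refine Submodule.mem_sup.2 ⟨Φ z, (hmem _).2 ⟨z, rfl⟩, b - Φ z, ?_, add_sub_cancel _ _⟩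
      rw [Ideal.smul_top_eq_map, Submodule.restrictScalars_mem]
      exact hle hz
    haveI : Module.Finite Q (B ⧸ (maximalIdeal Q) • (⊤ : Submodule Q B)) := by
      refine Module.Finite.of_surjective
        ((Submodule.mkQ _).comp ({ Φ.toLinearMap with
          map_smul' := fun q z => by
            show Φ (q • z) = φ q * Φ z
            rw [Algebra.smul_def, map_mul]
            congr 1
            exact hΦ q } : T →ₗ[Q] B)) fun y => ?_
      obtain ⟨b, rfl⟩ := Submodule.mkQ_surjective _ y
      obtain ⟨z, hz⟩ := hstep k b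
      refine ⟨z, ?_⟩
      show Submodule.Quotient.mk (Φ z) = Submodule.Quotient.mk b
      rw [Submodule.Quotient.eq, ← neg_sub, Ideal.smul_top_eq_map, Submodule.restrictScalars_mem]
      exact neg_mem (hle hz)
    haveI : IsLocalHom (algebraMap Q B) := inferInstanceAs (IsLocalHom φ.toRingHom)
    haveI : IsHausdorff (maximalIdeal Q) B := by
      rw [← IsHausdorff.map_algebraMap_iff (S := B)]
      refine IsHausdorff.of_le_jacobson _ _ ?_
      exact ((((local_hom_TFAE (algebraMap Q B)).out 0 2 rfl rfl).mp inferInstance)).trans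
        (IsLocalRing.jacobson_eq_maximalIdeal ⊥ bot_ne_top).ge
    haveI : Module.Finite Q B := GrothLib.AdicExtra.finite_of_quotient_finite (I := maximalIdeal Q) inferInstance
    intro b
    have : N = ⊤ := top_le_iff.1 (Submodule.le_of_le_smul_of_le_jacobson_bot Module.Finite.fg_top
      (IsLocalRing.jacobson_eq_maximalIdeal ⊥ bot_ne_top).ge htop)
    exact (hmem b).1 (this ▸ Submodule.mem_top)
  -- injectivity
  have hKI : ∀ z, Φ z = 0 → z ∈ I := by
    intro z hz
    obtain ⟨q, hq⟩ := hT z
    have h1 : φ q ∈ (maximalIdeal D).map (algebraMap D B) := by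
      have := hIB _ hq
      rw [map_sub, hz, zero_sub, hΦ] at this
      exact (neg_mem_iff (H := (maximalIdeal D).map (algebraMap D B))).1 this
    have h2 : (1 : D) ⊗ₜ[R] q ∈ I := by
      have h3 := Ideal.mem_map_of_mem (Algebra.TensorProduct.includeRight : Q →ₐ[R] T).toRingHom (hker q h1)
      rw [Ideal.map_map, AlgHom.toRingHom_eq_coe, AlgHom.comp_algebraMap, IsScalarTower.algebraMap_eq R D T,
        ← Ideal.map_map] at h3
      exact Ideal.map_mono hmRD h3
    have := add_mem hq h2
    rwa [sub_add_cancel] at this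
  set K : Ideal T := RingHom.ker Φ.toRingHom with hK
  have hKle : K ≤ I • K := by
    intro z hz
    have hzI := hKI z hz
    rw [hI, Ideal.map, Ideal.span, Submodule.mem_span_set'] at hzI
    obtain ⟨N, t, g, hsum⟩ := hzI
    choose c hc hce using fun i => (g i).2
    have h0 : ∑ i, c i • Φ (t i) = 0 := by
      have := congrArg Φ hsum
      rw [map_sum, show Φ z = 0 from hz] at this
      rw [← this]
      refine Finset.sum_congr rfl fun i _ => ?_
      rw [smul_eq_mul, map_mul, ← hce i, Φ.commutes, mul_comm, Algebra.smul_def]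
    obtain ⟨m, a, y, hy1, hy2⟩ := Module.Flat.isTrivialRelation_of_sum_smul_eq_zero (R := D) (M := B) h0
    choose w hw using fun j => hsurj (y j)
    have key : z = ∑ i, algebraMap D T (c i) * (t i - ∑ j, algebraMap D T (a i j) * w j) := by
      rw [← hsum]
      simp only [mul_sub, Finset.sum_sub_distrib]
      rw [Finset.sum_congr rfl fun i _ => Finset.mul_sum Finset.univ (fun j => algebraMap D T (a i j) * w j) (algebraMap D T (c i))]
      rw [Finset.sum_comm (f := fun i j => algebraMap D T (c i) * (algebraMap D T (a i j) * w j))]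
      have h4 : ∀ j, ∑ i, algebraMap D T (c i) * (algebraMap D T (a i j) * w j) = 0 := fun j => by
        simp only [← mul_assoc, ← map_mul, ← Finset.sum_mul, ← map_sum]
        rw [show ∑ i, c i * a i j = 0 from hy2 j, map_zero, zero_mul]
      rw [Finset.sum_eq_zero fun j _ => h4 j, sub_zero]
      exact Finset.sum_congr rfl fun i _ => by rw [smul_eq_mul, ← hce i, mul_comm]
    rw [key]
    refine Ideal.sum_mem _ fun i _ => Submodule.smul_mem_smul (Ideal.mem_map_of_mem _ (hc i)) ?_
    show Φ _ = 0
    rw [map_sub, map_sum, sub_eq_zero, show Φ (t i) = ∑ j, a i j • y j from hy1 i]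
    refine Finset.sum_congr rfl fun j _ => ?_
    rw [map_mul, Φ.commutes, hw, Algebra.smul_def]
  have hjac : I ≤ (⊥ : Ideal T).jacobson := by
    refine le_sInf fun M hM => ?_
    haveI : M.IsMaximal := hM.2
    haveI : Algebra.IsIntegral Q T := Algebra.IsIntegral.of_finite Q T
    have hMQ : M.comap (algebraMap Q T) = maximalIdeal Q :=
      IsLocalRing.eq_maximalIdeal (Ideal.isMaximal_comap_of_isIntegral_of_isMaximal M)
    haveI : (M.comap (algebraMap D T)).IsPrime := Ideal.IsPrime.comap _
    have h1 : (maximalIdeal R).map (algebraMap R D) ≤ M.comap (algebraMap D T) := by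
      rw [Ideal.map_le_iff_le_comap, Ideal.comap_comap, ← IsScalarTower.algebraMap_eq]
      intro r hr
      have h2 : algebraMap R Q r ∈ M.comap (algebraMap Q T) := hMQ ▸
        ((((local_hom_TFAE (algebraMap R Q)).out 0 2 rfl rfl).mp inferInstance) (Ideal.mem_map_of_mem _ hr))
      rw [Ideal.mem_comap] at h2 ⊢
      rw [← (Algebra.TensorProduct.includeRight : Q →ₐ[R] T).commutes r]
      exact h2
    obtain ⟨k, hk⟩ : ∃ k, maximalIdeal D ^ k ≤ (maximalIdeal R).map (algebraMap R D) := by
      refine Ideal.exists_pow_le_of_le_radical_of_fg ?_ (IsNoetherian.noetherian _)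
      rw [Ideal.radical_eq_sInf]
      refine le_sInf fun P hP => ?_
      haveI := hP.2
      have h1 : P.comap (algebraMap R D) = maximalIdeal R :=
        le_antisymm (le_maximalIdeal (Ideal.IsPrime.ne_top inferInstance)) (Ideal.map_le_iff_le_comap.1 hP.1)
      haveI : (P.comap (algebraMap R D)).IsMaximal := h1 ▸ maximalIdeal.isMaximal R
      haveI : Algebra.IsIntegral R D := Algebra.IsIntegral.of_finite R D
      haveI := Ideal.isMaximal_of_isIntegral_of_isMaximal_comap (R := R) P inferInstance
      exact (IsLocalRing.eq_maximalIdeal this).ge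
    rw [hI, Ideal.map_le_iff_le_comap]
    intro c hc
    exact Ideal.IsPrime.mem_of_pow_mem inferInstance k (h1 (hk (Ideal.pow_mem_pow hc k)))
  have hK0 : K = ⊥ := Submodule.eq_bot_of_le_smul_of_le_jacobson_bot I K (IsNoetherian.noetherian _) hKle hjac
  have hinj : Function.Injective Φ := (RingHom.injective_iff_ker_eq_bot Φ.toRingHom).2 hK0
  exact ⟨AlgEquiv.ofBijective Φ ⟨hinj, hsurj⟩, hΦ⟩

set_option maxHeartbeats 800000 in
/-- The generic fibre of a formally smooth algebra over a complete local domain. -/
theorem isRegularRing_tensor_domain {D B : Type u} [CommRing D] [IsDomain D] [IsLocalRing D]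
    [IsNoetherianRing D] [IsAdicComplete (maximalIdeal D) D] [CommRing B] [IsLocalRing B] [IsNoetherianRing B]
    [IsAdicComplete (maximalIdeal B) B] [Algebra D B] [IsLocalHom (algebraMap D B)]
    (h : CAlgX.IsAdicFormallySmooth D B (maximalIdeal B)) (κ L : Type u) [Field κ] [Algebra D κ]
    [IsFractionRing D κ] [Field L] [Algebra κ L] [Algebra D L] [IsScalarTower D κ L] [Module.Finite κ L] :
    IsRegularRing (L ⊗[D] B) := by
  haveI : Module.Flat D B := flat_of_isAdicFormallySmooth h
  obtain ⟨Λ, _, d, f, hΛ, hinj, hfin, hres, hRreg, hRc⟩ := GrothLib.HLVT.exists_regular_subring D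
  haveI hΛl : IsLocalRing Λ := by
    rcases hΛ with hF | hC
    · letI := hF.toField; infer_instance
    · obtain ⟨_, hv, -⟩ := hC; haveI := hv; infer_instance
  let R := MvPowerSeries (Fin d) Λ
  letI : Algebra R D := f.toAlgebra
  haveI : Module.Finite R D := hfin
  letI : Algebra R B := ((algebraMap D B).comp f).toAlgebra
  haveI : IsScalarTower R D B := IsScalarTower.of_algebraMap_eq fun _ => rfl
  set I := (maximalIdeal D).map (algebraMap D B) with hI
  have hIle : I ≤ maximalIdeal B := ((local_hom_TFAE (algebraMap D B)).out 0 2 rfl rfl).mp inferInstance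
  let B0 := B ⧸ I
  haveI : IsLocalRing B0 := GrothLib.RegLoc.isLocalRing_quotient hIle
  letI := Ideal.Quotient.field (maximalIdeal D)
  have hB0 : CAlgX.IsAdicFormallySmooth (D ⧸ maximalIdeal D) B0 (maximalIdeal B0) :=
    adicFormallySmooth_quotient h (maximalIdeal D)
  haveI : IsRegularLocalRing B0 := (Groth.Agent.S2471.result.1 hB0).1
  haveI : IsAdicComplete (maximalIdeal B0) B0 := isAdicComplete_quotient I
  have hfm : ∀ x ∈ maximalIdeal R, f x ∈ maximalIdeal D := fun x hx hu => by
    haveI : IsLocalHom f := RingHom.IsIntegral.isLocalHom hfin.to_isIntegral hinj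
    exact hx (isUnit_of_map_unit f x hu)
  have h0 : ∀ x ∈ maximalIdeal R, algebraMap R B0 x = 0 := fun x hx =>
    Ideal.Quotient.eq_zero_iff_mem.2 (Ideal.mem_map_of_mem _ (hfm x hx))
  obtain ⟨Q, _, hQreg, _, π, hQc, hQloc, hQflat, hπs, hπk⟩ := exists_flat_lift d hΛ B0 h0
  haveI := hQreg; haveI := hQc; haveI := hQloc; haveI := hQflat
  -- formal smoothness of the lift
  have hQfs : CAlgX.IsAdicFormallySmooth R Q (maximalIdeal Q) := by
    refine isAdicFormallySmooth_of_adic (GrothLib.AdicFSLoc.isFormallySmoothAdic_of_flat _ ?_)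
    set N := (maximalIdeal R).map (algebraMap R Q)
    haveI : IsLocalRing (Q ⧸ N) := GrothLib.RegLoc.isLocalRing_quotient
      (((local_hom_TFAE (algebraMap R Q)).out 0 2 rfl rfl).mp inferInstance)
    rw [GrothLib.RegLoc.map_maximalIdeal_quotient]
    letI := Ideal.Quotient.field (maximalIdeal R)
    letI : Algebra (R ⧸ maximalIdeal R) B0 := (Ideal.Quotient.lift _ (algebraMap R B0) h0).toAlgebra
    let g : (R ⧸ maximalIdeal R) →+* D ⧸ maximalIdeal D := Ideal.quotientMap _ f hfm
    have hg : Function.Bijective g := ⟨g.injective, fun y => by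
      obtain ⟨r, hr⟩ := hres y
      exact ⟨Ideal.Quotient.mk _ r, hr⟩⟩
    have hB0' : CAlgX.IsAdicFormallySmooth (R ⧸ maximalIdeal R) B0 (maximalIdeal B0) :=
      adicFormallySmooth_of_base_equiv g hg (fun c => by
        obtain ⟨r, rfl⟩ := Ideal.Quotient.mk_surjective c; rfl) hB0
    let eR : (Q ⧸ N) ≃+* B0 :=
      (Ideal.quotEquivOfEq hπk.symm).trans (RingHom.quotientKerEquivOfSurjective hπs)
    let e : (Q ⧸ N) ≃ₐ[R ⧸ maximalIdeal R] B0 := AlgEquiv.ofRingEquiv (f := eR) fun c => by
      obtain ⟨r, rfl⟩ := Ideal.Quotient.mk_surjective c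
      exact π.commutes r
    refine adicFormallySmooth_of_algEquiv e.symm (Ideal.map_le_iff_le_comap.2 fun x hx => ?_) hB0'
    intro hu
    exact hx ((isUnit_map_iff e.symm x).1 hu)
  haveI : IsNoetherianRing B0 := inferInstance
  let u : Q →ₐ[R] B ⧸ I := π
  have hu : (maximalIdeal Q).map u.toRingHom ≤ (maximalIdeal B).map (Ideal.Quotient.mk I) := by
    rw [GrothLib.RegLoc.map_maximalIdeal_quotient, Ideal.map_le_iff_le_comap]
    haveI : IsLocalHom u.toRingHom := Function.Surjective.isLocalHom _ hπs
    intro x hx hu'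
    exact hx (isUnit_of_map_unit u.toRingHom x hu')
  obtain ⟨φ, -, hφ⟩ := exists_lift hQfs I (ne_top_of_le_ne_top (maximalIdeal.isMaximal B).ne_top hIle) u hu
  obtain ⟨e, -⟩ := bijective_of_lift (R := R) (D := D) hres φ
    (fun b => by
      obtain ⟨q, hq⟩ := hπs (Ideal.Quotient.mk I b)
      exact ⟨q, Ideal.Quotient.eq.1 ((AlgHom.congr_fun hφ q).trans hq)⟩)
    (fun q hq => by
      rw [← hπk, RingHom.mem_ker]
      exact (AlgHom.congr_fun hφ q).symm.trans (Ideal.Quotient.eq_zero_iff_mem.2 hq))
  -- regularity after a finite field extension of the regular base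
  haveI : IsDomain R := GrothLib.CMFree.isDomain_of_isRegularLocalRing R
  haveI : IsRegularRing Q := GrothLib.Serre.isRegularRing_of_isRegularLocalRing Q
  haveI : FaithfulSMul R D := (faithfulSMul_iff_algebraMap_injective _ _).2 hinj
  letI := FractionRing.liftAlgebra R (FractionRing D)
  haveI : FiniteDimensional (FractionRing R) (FractionRing D) := inferInstance
  let eκ := FractionRing.algEquiv D κ
  let ι : FractionRing R →+* L :=
    (algebraMap κ L).comp (eκ.toRingEquiv.toRingHom.comp (algebraMap (FractionRing R) (FractionRing D)))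
  letI : Algebra (FractionRing R) L := ι.toAlgebra
  letI : Algebra R L := ((algebraMap D L).comp f).toAlgebra
  haveI : IsScalarTower R D L := IsScalarTower.of_algebraMap_eq fun _ => rfl
  haveI : IsScalarTower R (FractionRing R) L := IsScalarTower.of_algebraMap_eq fun x => by
    show algebraMap D L (f x) =
      algebraMap κ L (eκ (algebraMap (FractionRing R) (FractionRing D) (algebraMap R (FractionRing R) x)))
    rw [← IsScalarTower.algebraMap_apply R (FractionRing R) (FractionRing D),
      IsScalarTower.algebraMap_apply R D (FractionRing D), AlgEquiv.commutes, ← IsScalarTower.algebraMap_apply]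
    rfl
  letI : Algebra (FractionRing D) L := ((algebraMap κ L).comp eκ.toRingEquiv.toRingHom).toAlgebra
  haveI : IsScalarTower (FractionRing R) (FractionRing D) L := IsScalarTower.of_algebraMap_eq fun _ => rfl
  haveI : Module.Finite (FractionRing D) L := by
    letI : Algebra (FractionRing D) κ := eκ.toRingEquiv.toRingHom.toAlgebra
    haveI : IsScalarTower (FractionRing D) κ L := IsScalarTower.of_algebraMap_eq fun _ => rfl
    haveI : Module.Finite (FractionRing D) κ :=
      Module.Finite.of_surjective (Algebra.linearMap (FractionRing D) κ) eκ.surjective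
    exact Module.Finite.trans κ L
  haveI : FiniteDimensional (FractionRing R) L := Module.Finite.trans (FractionRing D) L
  haveI : IsRegularRing (L ⊗[R] Q) := by
    have hsep : CharZero R → IsRegularRing (L ⊗[R] Q) := fun hR => by
      haveI := hR
      haveI : CharZero (FractionRing R) :=
        charZero_of_injective_ringHom (IsFractionRing.injective R (FractionRing R))
      exact GrothLib.GRingComplete.isRegularRing_tensor_of_isSeparable R (FractionRing R) L Q
    rcases hΛ with hF | hC
    · letI := hF.toField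
      obtain ⟨p, hp⟩ := CharP.exists Λ
      rcases CharP.char_is_prime_or_zero Λ p with hpp | rfl
      · haveI := Fact.mk hpp
        haveI : CharP R p := charP_of_injective_ringHom (f := MvPowerSeries.C (σ := Fin d) (R := Λ)) (RingHom.injective _) p
        haveI : CharP (FractionRing R) p := charP_of_injective_ringHom (IsFractionRing.injective R _) p
        refine isRegularRing_tensor_of_detects_lifts (K := FractionRing R) p ?_
          (liftsDerivations_of_formallySmooth hQfs) L
        intro L' _ _ _ _ _ S hS a ha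
        haveI := hS
        letI := (GrothLib.J2.toFracField (K := FractionRing R) S).toAlgebra
        haveI := GrothLib.J2.isFractionRing_fracField (K := FractionRing R) S
        haveI : IsScalarTower R S (GrothLib.J2.fracField (K := FractionRing R) S) :=
          IsScalarTower.of_algebraMap_eq fun r => Subtype.ext rfl
        have hinj' : Function.Injective (algebraMap R L') := by
          rw [IsScalarTower.algebraMap_eq _ (FractionRing R) L']
          exact (algebraMap (FractionRing R) L').injective.comp (IsFractionRing.injective _ _)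
        exact GrothLib.J2.exists_derivation p d (k := Λ) (E := GrothLib.J2.fracField (K := FractionRing R) S)
          (fun x y hxy => hinj' (congrArg Subtype.val hxy :)) a fun b hb => ha b b.2 (congrArg Subtype.val hb :)
      · haveI : CharZero Λ := CharP.charP_to_charZero _
        exact hsep (charZero_of_injective_ringHom (MvPowerSeries.C (σ := Fin d) (R := Λ)).injective)
    · obtain ⟨hd', hv, hc', p, hp, hm⟩ := hC
      haveI := hv
      haveI := GrothLib.Cohen.charZero_of_maximalIdeal_eq_span Λ p hp hm
      exact hsep (charZero_of_injective_ringHom (f := MvPowerSeries.C (σ := Fin d) (R := Λ)) fun x y hxy => by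
        have := congrArg MvPowerSeries.constantCoeff hxy
        rwa [MvPowerSeries.constantCoeff_C, MvPowerSeries.constantCoeff_C] at this)
  haveI : IsRegularRing (L ⊗[D] (D ⊗[R] Q)) := IsRegularRing.of_ringEquiv (R := L ⊗[R] Q)
    (Algebra.TensorProduct.cancelBaseChange R D L L Q).symm.toRingEquiv
  exact IsRegularRing.of_ringEquiv (R := L ⊗[D] (D ⊗[R] Q))
    (Algebra.TensorProduct.congr (AlgEquiv.refl (R := D) (A₁ := L)) e).toRingEquiv

set_option maxHeartbeats 800000 in
/-- **André's theorem**, complete case. -/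
theorem isRegularHom_of_complete {A B : Type u} [CommRing A] [CommRing B] [IsLocalRing A] [IsLocalRing B]
    [IsNoetherianRing A] [IsNoetherianRing B] [IsAdicComplete (maximalIdeal A) A]
    [IsAdicComplete (maximalIdeal B) B] [Algebra A B] [IsLocalHom (algebraMap A B)]
    (h : CAlgX.IsAdicFormallySmooth A B (maximalIdeal B)) : CAlg.IsRegularHom A B := by
  refine ⟨flat_of_isAdicFormallySmooth h, fun p _ => ⟨?_, fun K _ _ hK => ?_⟩⟩
  · haveI : Algebra.EssFiniteType B (B ⊗[A] p.ResidueField) := inferInstance
    haveI : IsNoetherianRing (B ⊗[A] p.ResidueField) := Algebra.EssFiniteType.isNoetherianRing B _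
    exact isNoetherianRing_of_ringEquiv _ (Algebra.TensorProduct.comm A B p.ResidueField).toRingEquiv
  let D := A ⧸ p
  set I := p.map (algebraMap A B)
  have hIle : I ≤ maximalIdeal B := (Ideal.map_mono (le_maximalIdeal (Ideal.IsPrime.ne_top inferInstance))).trans
    (((local_hom_TFAE (algebraMap A B)).out 0 2 rfl rfl).mp inferInstance)
  haveI : IsLocalRing (B ⧸ I) := GrothLib.RegLoc.isLocalRing_quotient hIle
  haveI : IsLocalRing D := IsLocalRing.of_surjective' (Ideal.Quotient.mk p) Ideal.Quotient.mk_surjective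
  haveI : IsAdicComplete (maximalIdeal D) D := isAdicComplete_quotient p
  haveI : IsAdicComplete (maximalIdeal (B ⧸ I)) (B ⧸ I) := isAdicComplete_quotient I
  haveI : IsLocalHom (algebraMap D (B ⧸ I)) := by
    refine ⟨fun c hc => ?_⟩
    obtain ⟨a, rfl⟩ := Ideal.Quotient.mk_surjective c
    haveI := IsLocalHom.of_surjective (Ideal.Quotient.mk I) Ideal.Quotient.mk_surjective
    exact (isUnit_of_map_unit (algebraMap A B) a (isUnit_of_map_unit (Ideal.Quotient.mk I) _ hc)).map _
  letI : Algebra D K := ((algebraMap p.ResidueField K).comp (algebraMap D p.ResidueField)).toAlgebra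
  haveI : IsScalarTower D p.ResidueField K := IsScalarTower.of_algebraMap_eq fun _ => rfl
  letI : Algebra A K := ((algebraMap p.ResidueField K).comp (algebraMap A p.ResidueField)).toAlgebra
  haveI : IsScalarTower A p.ResidueField K := IsScalarTower.of_algebraMap_eq fun _ => rfl
  haveI : IsScalarTower A D K := IsScalarTower.of_algebraMap_eq fun a => by
    show algebraMap p.ResidueField K (algebraMap A p.ResidueField a) =
      algebraMap p.ResidueField K (algebraMap D p.ResidueField (algebraMap A D a))
    rw [← IsScalarTower.algebraMap_apply A D p.ResidueField]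
  haveI := isRegularRing_tensor_domain (D := D) (B := B ⧸ I) (adicFormallySmooth_quotient h p) p.ResidueField K
  let e1 : (B ⧸ I) ≃ₐ[A] D ⊗[A] B :=
    ((Algebra.TensorProduct.quotIdealMapEquivTensorQuot B p).restrictScalars A).trans
      (Algebra.TensorProduct.comm A B D)
  let e2 : (B ⧸ I) ≃ₐ[D] D ⊗[A] B := AlgEquiv.ofRingEquiv (f := e1.toRingEquiv) fun c => by
    obtain ⟨a, rfl⟩ := Ideal.Quotient.mk_surjective c
    rw [← Ideal.Quotient.algebraMap_eq, ← IsScalarTower.algebraMap_apply, ← IsScalarTower.algebraMap_apply]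
    exact e1.commutes a
  haveI : IsRegularRing (K ⊗[D] (D ⊗[A] B)) := IsRegularRing.of_ringEquiv (R := K ⊗[D] (B ⧸ I))
    (Algebra.TensorProduct.congr (AlgEquiv.refl (R := D) (A₁ := K)) e2).toRingEquiv
  haveI : IsRegularRing (K ⊗[A] B) := IsRegularRing.of_ringEquiv (R := K ⊗[D] (D ⊗[A] B))
    (Algebra.TensorProduct.cancelBaseChange A D K K B).toRingEquiv
  exact IsRegularRing.of_ringEquiv (R := K ⊗[A] B)
    (Algebra.TensorProduct.cancelBaseChange A p.ResidueField K K B).symm.toRingEquiv

end GrothLib.AdicFSFlat
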