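import Groth.Agent.Lib.AdicFSFlat.Flat
import Groth.Agent.Lib.AdicFSLoc.Basic
import Groth.Agent.Lib.AdicFSLoc.RegularFibre
import Groth.Agent.S4512
import Mathlib.RingTheory.LocalRing.ResidueField.Fiber

/-!
# Formal smoothness of local homomorphisms: flat with geometrically regular closed fibre
-/

universe u

open IsLocalRing TensorProduct

namespace GrothLib.AdicFSFlat

variable {A B : Type u} [CommRing A] [CommRing B] [IsLocalRing A] [IsLocalRing B]
  [IsNoetherianRing A] [IsNoetherianRing B] [Algebra A B] [IsLocalHom (algebraMap A B)]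

omit [IsNoetherianRing A] in
theorem geometricallyRegular_fibre (h : CAlgX.IsAdicFormallySmooth A B (maximalIdeal B)) :
    CAlg.IsGeometricallyRegular (maximalIdeal A).ResidueField ((maximalIdeal A).Fiber B) := by
  set K := (maximalIdeal A).ResidueField
  have hbc := GrothLib.AdicFSLoc.baseChange h K
  let i : B →ₐ[A] K ⊗[A] B := Algebra.TensorProduct.includeRight
  have hsurj : Function.Surjective i := by
    intro z
    induction z using TensorProduct.induction_on with
    | zero => exact ⟨0, map_zero i⟩
    | add x y hx hy =>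
      obtain ⟨a, rfl⟩ := hx
      obtain ⟨b, rfl⟩ := hy
      exact ⟨a + b, map_add i a b⟩
    | tmul c b =>
      obtain ⟨q, rfl⟩ := Ideal.bijective_algebraMap_quotient_residueField (maximalIdeal A) |>.2 c
      obtain ⟨a, rfl⟩ := Ideal.Quotient.mk_surjective q
      refine ⟨a • b, ?_⟩
      show (1 : K) ⊗ₜ[A] (a • b) = _
      rw [tmul_smul, smul_tmul', Algebra.smul_def, mul_one,
        IsScalarTower.algebraMap_apply A (A ⧸ maximalIdeal A) K]
      rfl
  haveI : Nontrivial (K ⊗[A] B) := by
    have hle : (maximalIdeal A).map (algebraMap A B) ≠ ⊤ := fun hh => (maximalIdeal.isMaximal B).ne_top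
      (top_le_iff.1 (hh ▸ ((local_hom_TFAE (algebraMap A B)).out 0 2 rfl rfl).mp inferInstance))
    haveI : Nontrivial (B ⧸ (maximalIdeal A).map (algebraMap A B)) := Ideal.Quotient.nontrivial_iff.2 hle
    let eK : (A ⧸ maximalIdeal A) ≃ₐ[A] K :=
      AlgEquiv.ofBijective (IsScalarTower.toAlgHom A (A ⧸ maximalIdeal A) K)
        (Ideal.bijective_algebraMap_quotient_residueField (maximalIdeal A))
    let e : (B ⧸ (maximalIdeal A).map (algebraMap A B)) ≃ₐ[A] K ⊗[A] B :=
      ((Algebra.TensorProduct.quotIdealMapEquivTensorQuot B (maximalIdeal A)).restrictScalars A).trans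
        ((Algebra.TensorProduct.comm A B (A ⧸ maximalIdeal A)).trans
          (Algebra.TensorProduct.congr eK AlgEquiv.refl))
    exact e.symm.toEquiv.nontrivial
  haveI : IsLocalRing (K ⊗[A] B) := IsLocalRing.of_surjective' i.toRingHom hsurj
  haveI : IsNoetherianRing (K ⊗[A] B) := isNoetherianRing_of_surjective B (K ⊗[A] B) i.toRingHom hsurj
  have hmax : (maximalIdeal B).map i = maximalIdeal (K ⊗[A] B) := by
    haveI : IsLocalHom i.toRingHom := Function.Surjective.isLocalHom _ hsurj
    refine le_antisymm (Ideal.map_le_iff_le_comap.2 fun x hx hu => hx ((isUnit_map_iff i.toRingHom x).1 hu))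
      fun z hz => ?_
    obtain ⟨b, rfl⟩ := hsurj z
    exact Ideal.mem_map_of_mem _ fun hu => hz (hu.map i)
  rw [hmax] at hbc
  exact (Groth.Agent.S4512.result hbc).1

omit [IsNoetherianRing A] in
theorem isAdicFormallySmooth_of_flat [Module.Flat A B]
    (h : CAlg.IsGeometricallyRegular (maximalIdeal A).ResidueField ((maximalIdeal A).Fiber B)) :
    CAlgX.IsAdicFormallySmooth A B (maximalIdeal B) := by
  have hfs : EGA41.IsFormallySmoothAdic A (maximalIdeal A) B (maximalIdeal B) := by
    refine GrothLib.AdicFSLoc.isFormallySmoothAdic_of_regular_fibre fun L _ _ _ _ hfin => ?_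
    letI : Algebra (maximalIdeal A).ResidueField L :=
      ((algebraMap (A ⧸ maximalIdeal A) L).comp
        (RingEquiv.ofBijective _ (Ideal.bijective_algebraMap_quotient_residueField (maximalIdeal A))).symm.toRingHom).toAlgebra
    have hq : ∀ c : A ⧸ maximalIdeal A,
        algebraMap (maximalIdeal A).ResidueField L (algebraMap _ (maximalIdeal A).ResidueField c) = algebraMap _ L c := fun c =>
      congrArg (algebraMap (A ⧸ maximalIdeal A) L)
        ((RingEquiv.ofBijective _ (Ideal.bijective_algebraMap_quotient_residueField (maximalIdeal A))).symm_apply_apply c)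
    haveI : IsScalarTower (A ⧸ maximalIdeal A) (maximalIdeal A).ResidueField L :=
      IsScalarTower.of_algebraMap_eq fun c => (hq c).symm
    haveI : IsScalarTower A (maximalIdeal A).ResidueField L := IsScalarTower.of_algebraMap_eq fun a => by
      rw [IsScalarTower.algebraMap_apply A (A ⧸ maximalIdeal A) (maximalIdeal A).ResidueField, hq,
        ← IsScalarTower.algebraMap_apply]
    haveI : Module.Finite (maximalIdeal A).ResidueField L :=
      Module.Finite.of_restrictScalars_finite (A ⧸ maximalIdeal A) _ L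
    haveI := h L inferInstance
    exact IsRegularRing.of_ringEquiv
      (R := L ⊗[(maximalIdeal A).ResidueField] ((maximalIdeal A).ResidueField ⊗[A] B))
      (Algebra.TensorProduct.cancelBaseChange A (maximalIdeal A).ResidueField L L B).toRingEquiv
  intro C _ _ J hJ ψ ⟨t, ht⟩
  refine hfs C J ⟨2, hJ⟩ ⟨t * 2, ?_⟩ ψ ⟨t, ht⟩
  rw [pow_mul, Ideal.map_pow, eq_bot_iff, ← hJ]
  refine Ideal.pow_right_mono (Ideal.map_le_iff_le_comap.2 fun a ha => ?_) 2
  rw [Ideal.mem_comap, ← Ideal.Quotient.eq_zero_iff_mem]
  show algebraMap A (C ⧸ J) a = 0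
  rw [← ψ.commutes]
  refine ht _ (Ideal.pow_right_mono (((local_hom_TFAE (algebraMap A B)).out 0 2 rfl rfl).mp inferInstance) t ?_)
  rw [← Ideal.map_pow]
  exact Ideal.mem_map_of_mem _ ha

theorem isAdicFormallySmooth_iff :
    (Module.Flat A B ∧ CAlg.IsGeometricallyRegular (maximalIdeal A).ResidueField ((maximalIdeal A).Fiber B)) ↔
      CAlgX.IsAdicFormallySmooth A B (maximalIdeal B) :=
  ⟨fun h => have := h.1; isAdicFormallySmooth_of_flat h.2,
    fun h => ⟨flat_of_isAdicFormallySmooth h, geometricallyRegular_fibre h⟩⟩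

end GrothLib.AdicFSFlat
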