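import Groth.Agent.Lib.CIPres.Factor
import Groth.Agent.Lib.AdicFS.Complete
import Groth.Agent.Lib.AdicExtra.Complete
import Groth.Agent.Lib.CMMor6.Algebra
import Groth.Agent.Lib.GeomReg.FiniteGRing
import Groth.Agent.Lib.QRegNil.Flat
import Mathlib.RingTheory.AdicCompletion.AsTensorProduct
import Mathlib.RingTheory.AdicCompletion.LocalRing

/-!
# Adically formally smooth local homomorphisms of Noetherian local rings are flat (EGA 0_IV 19.7.1)
-/

universe u

open IsLocalRing
open scoped TensorProduct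

noncomputable section

namespace GrothLib.AdicFSFlat

/-- A quotient of a complete Noetherian local ring is complete. -/
theorem isAdicComplete_quotient {S : Type u} [CommRing S] [IsLocalRing S] [IsNoetherianRing S]
    [IsAdicComplete (maximalIdeal S) S] (I : Ideal S) [IsLocalRing (S ⧸ I)] :
    IsAdicComplete (maximalIdeal (S ⧸ I)) (S ⧸ I) := by
  haveI : IsPrecomplete (maximalIdeal S) (S ⧸ I) :=
    GrothLib.AdicExtra.isPrecomplete_of_surjective I.mkQ I.mkQ_surjective
  haveI : IsAdicComplete (maximalIdeal S) (S ⧸ I) :=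
    { __ := (inferInstance : IsPrecomplete (maximalIdeal S) (S ⧸ I))
      haus' := (IsHausdorff.of_le_jacobson (maximalIdeal S) (S ⧸ I)
        (IsLocalRing.jacobson_eq_maximalIdeal ⊥ bot_ne_top).ge).haus' }
  rw [← GrothLib.RegLoc.map_maximalIdeal_quotient I, ← Ideal.Quotient.algebraMap_eq,
    IsAdicComplete.map_algebraMap_iff]
  infer_instance

/-- Lifting to a complete Noetherian local algebra, from the square-zero form. -/
theorem exists_lift {A B C : Type u} [CommRing A] [CommRing B] [IsLocalRing B] [Algebra A B]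
    (h : CAlgX.IsAdicFormallySmooth A B (maximalIdeal B))
    [CommRing C] [IsLocalRing C] [IsNoetherianRing C] [IsAdicComplete (maximalIdeal C) C] [Algebra A C]
    (J : Ideal C) (hJ : J ≠ ⊤) (u : B →ₐ[A] C ⧸ J)
    (hu : (maximalIdeal B).map u.toRingHom ≤ (maximalIdeal C).map (Ideal.Quotient.mk J)) :
    ∃ v : B →ₐ[A] C, (∀ x ∈ maximalIdeal B, v x ∈ maximalIdeal C) ∧
      (Ideal.Quotient.mkₐ A J).comp v = u := by
  haveI : Nontrivial (C ⧸ J) := Ideal.Quotient.nontrivial_iff.2 hJ
  haveI : IsLocalRing (C ⧸ J) := IsLocalRing.of_surjective' _ Ideal.Quotient.mk_surjective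
  have hJm : J ≤ maximalIdeal C := IsLocalRing.le_maximalIdeal hJ
  haveI : IsHausdorff ((maximalIdeal C).map (Ideal.Quotient.mk J)) (C ⧸ J) := by
    rw [GrothLib.RegLoc.map_maximalIdeal_quotient]
    exact IsHausdorff.of_le_jacobson _ _ (IsLocalRing.jacobson_eq_maximalIdeal ⊥ bot_ne_top).ge
  obtain ⟨v, hv, hvu⟩ := GrothLib.AdicFS.exists_lift_adicComplete (𝔞 := (⊥ : Ideal A)) (𝔟 := maximalIdeal B)
    (𝔠 := maximalIdeal C) (J := J) ((GrothLib.AdicFS.isAdicFormallySmooth_iff _).1 h)
    ⟨1, by simp⟩ ⟨1, by rwa [pow_one]⟩ u ⟨1, by rwa [pow_one]⟩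
  refine ⟨v, fun x hx => ?_, hvu⟩
  obtain ⟨k, hk⟩ := hv
  exact (maximalIdeal.isMaximal C).isPrime.mem_of_pow_mem k
    (by rw [← map_pow]; exact hk (Ideal.mem_map_of_mem _ (Ideal.pow_mem_pow hx k)))

variable {A B : Type u} [CommRing A] [CommRing B] [IsLocalRing A] [IsLocalRing B]
  [IsNoetherianRing A] [IsNoetherianRing B] [Algebra A B] [IsLocalHom (algebraMap A B)]

/-- Formally smooth ⟹ flat. -/
theorem flat_of_isAdicFormallySmooth (h : CAlgX.IsAdicFormallySmooth A B (maximalIdeal B)) :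
    Module.Flat A B := by
  let Ah := AdicCompletion (maximalIdeal A) A
  let Bh := AdicCompletion (maximalIdeal B) B
  haveI : IsNoetherianRing Ah := GrothLib.AdicExtra.isNoetherianRing_adicCompletion_of_fg _ (maximalIdeal A).fg_of_isNoetherianRing
  haveI : IsNoetherianRing Bh := GrothLib.AdicExtra.isNoetherianRing_adicCompletion_of_fg _ (maximalIdeal B).fg_of_isNoetherianRing
  haveI : Module.Flat A Ah := inferInstance
  obtain ⟨ψh, hψh⟩ := GrothLib.GeomReg.exists_completion_map A B
  letI : Algebra Ah Bh := ψh.toAlgebra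
  haveI : IsScalarTower A Ah Bh := IsScalarTower.of_algebraMap_eq' (by
    rw [RingHom.algebraMap_toAlgebra, hψh, ← IsScalarTower.algebraMap_eq])
  haveI : IsLocalHom (algebraMap Ah Bh) := by
    refine ((local_hom_TFAE (algebraMap Ah Bh)).out 2 0 rfl rfl).mp ?_
    rw [AdicCompletion.maximalIdeal_eq_map (R := A), Ideal.map_map, ← IsScalarTower.algebraMap_eq,
      IsScalarTower.algebraMap_eq A B Bh, ← Ideal.map_map, AdicCompletion.maximalIdeal_eq_map (R := B)]
    exact Ideal.map_mono (((local_hom_TFAE (algebraMap A B)).out 0 2 rfl rfl).mp inferInstance)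
  obtain ⟨R, S, _, _, _, _, hRc, hSc, _, hloc, hflat, -, φ, ψ, hφ, hψ, hcomm⟩ :=
    GrothLib.CIPres.exists_factorization (A := Ah) (B := Bh)
  letI : Algebra R Ah := φ.toAlgebra
  -- the flat lift
  let I : Ideal S := (RingHom.ker φ).map (algebraMap R S)
  have hIψ : I ≤ RingHom.ker ψ := by
    rw [Ideal.map_le_iff_le_comap]
    intro r hr
    rw [Ideal.mem_comap, RingHom.mem_ker, ← RingHom.comp_apply, hcomm, RingHom.comp_apply,
      RingHom.mem_ker.1 hr, map_zero]
  let C := S ⧸ I
  haveI : Nontrivial C := Ideal.Quotient.nontrivial_iff.2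
    (ne_top_of_le_ne_top (RingHom.ker_ne_top ψ) hIψ)
  haveI : IsLocalRing C := IsLocalRing.of_surjective' _ Ideal.Quotient.mk_surjective
  haveI : IsAdicComplete (maximalIdeal C) C := isAdicComplete_quotient I
  let eφ : (R ⧸ RingHom.ker φ) ≃+* Ah := RingHom.quotientKerEquivOfSurjective hφ
  let aC : Ah →+* C := (Ideal.quotientMap I (algebraMap R S) Ideal.le_comap_map).comp eφ.symm.toRingHom
  have haC : ∀ r, aC (φ r) = Ideal.Quotient.mk I (algebraMap R S r) := fun r => by
    have : eφ.symm (φ r) = Ideal.Quotient.mk _ r := eφ.symm_apply_eq.2 rfl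
    show Ideal.quotientMap I (algebraMap R S) Ideal.le_comap_map (eφ.symm (φ r)) = _
    rw [this]; rfl
  letI : Algebra Ah C := aC.toAlgebra
  haveI : IsScalarTower R Ah C := IsScalarTower.of_algebraMap_eq fun r => (haC r).symm
  letI : Algebra A C := (aC.comp (algebraMap A Ah)).toAlgebra
  haveI : IsScalarTower A Ah C := IsScalarTower.of_algebraMap_eq fun _ => rfl
  haveI hflatC : Module.Flat Ah C := by
    rw [← RingHom.flat_algebraMap_iff, RingHom.algebraMap_toAlgebra]
    refine (RingHom.Flat.of_bijective eφ.symm.bijective).comp ?_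
    exact GrothLib.QRegNil.flat_quotientMap (S := S) (RingHom.ker φ)
  haveI : Module.Flat A C := Module.Flat.trans A Ah C
  let π : C →ₐ[A] Bh :=
    { Ideal.Quotient.lift I ψ (fun x hx => hIψ hx) with
      commutes' := fun a => by
        obtain ⟨r, hr⟩ := hφ (algebraMap A Ah a)
        show Ideal.Quotient.lift I ψ _ (aC (algebraMap A Ah a)) = _
        rw [← hr, haC, Ideal.Quotient.lift_mk, ← RingHom.comp_apply, hcomm, RingHom.comp_apply, hr,
          ← IsScalarTower.algebraMap_apply] }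
  have hπ : Function.Surjective π := fun y => by
    obtain ⟨s, rfl⟩ := hψ y
    exact ⟨Ideal.Quotient.mk I s, rfl⟩
  set J := RingHom.ker π.toRingHom with hJdef
  let e : (C ⧸ J) ≃ₐ[A] Bh := Ideal.quotientKerAlgEquivOfSurjective hπ
  let u : B →ₐ[A] C ⧸ J := e.symm.toAlgHom.comp (IsScalarTower.toAlgHom A B Bh)
  have hJtop : J ≠ ⊤ := RingHom.ker_ne_top _
  haveI : Nontrivial (C ⧸ J) := Ideal.Quotient.nontrivial_iff.2 hJtop
  haveI : IsLocalRing (C ⧸ J) := IsLocalRing.of_surjective' _ Ideal.Quotient.mk_surjective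
  have hu : (maximalIdeal B).map u.toRingHom ≤ (maximalIdeal C).map (Ideal.Quotient.mk J) := by
    rw [GrothLib.RegLoc.map_maximalIdeal_quotient, Ideal.map_le_iff_le_comap]
    intro b hb hunit
    have h1 : IsUnit (algebraMap B Bh b) := (isUnit_map_iff e.symm _).1 hunit
    exact hb ((isUnit_map_iff (algebraMap B Bh) b).1 h1)
  obtain ⟨v, hvm, hvu⟩ := exists_lift h J hJtop u hu
  have hv : ∀ b, π (v b) = algebraMap B Bh b := fun b => by
    have h1 : e (Ideal.Quotient.mk J (v b)) = e (u b) := congrArg e (AlgHom.congr_fun hvu b)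
    rw [show u b = e.symm (algebraMap B Bh b) from rfl, AlgEquiv.apply_symm_apply] at h1
    exact h1
  -- extend to the completion
  have hle : ∀ n, maximalIdeal B ^ n ≤ (maximalIdeal C ^ n).comap v.toRingHom := fun n =>
    (Ideal.pow_right_mono (show maximalIdeal B ≤ (maximalIdeal C).comap v.toRingHom from hvm) n).trans
      (Ideal.le_comap_pow _ n)
  let f : ∀ n, Bh →ₐ[A] C ⧸ maximalIdeal C ^ n := fun n =>
    (Ideal.Quotient.liftₐ (maximalIdeal B ^ n) ((Ideal.Quotient.mkₐ A (maximalIdeal C ^ n)).comp v)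
      (fun x hx => Ideal.Quotient.eq_zero_iff_mem.2 (hle n hx))).comp
      ((AdicCompletion.evalₐ (maximalIdeal B) n).restrictScalars A)
  have hf : ∀ {m n : ℕ} (hmn : m ≤ n),
      (Ideal.Quotient.factorₐ A (Ideal.pow_le_pow_right hmn)).comp (f n) = f m := by
    intro m n hmn
    refine AlgHom.ext fun x => ?_
    obtain ⟨s, rfl⟩ := AdicCompletion.mk_surjective _ _ x
    simp only [f, AlgHom.comp_apply, AlgHom.restrictScalars_apply, AdicCompletion.evalₐ_mk]
    show Ideal.Quotient.mk _ (v (s.val n)) = Ideal.Quotient.mk _ (v (s.val m))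
    rw [Ideal.Quotient.eq, ← map_sub]
    exact hle m (Ideal.Quotient.eq.1 (AdicCompletion.Ideal.mk_eq_mk _ hmn s))
  let vh : Bh →ₐ[A] C := IsAdicComplete.liftAlgHom (maximalIdeal C) f hf
  have hπm : ∀ n, maximalIdeal C ^ n ≤ (maximalIdeal Bh ^ n).comap π.toRingHom := fun n => by
    refine (Ideal.pow_right_mono (fun c hc => ?_) n).trans (Ideal.le_comap_pow _ n)
    intro hunit
    haveI : IsLocalHom π.toRingHom := Function.Surjective.isLocalHom _ hπ
    exact hc ((isUnit_map_iff π.toRingHom c).1 hunit)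
  have hsec : π.comp vh = AlgHom.id A Bh := by
    refine AlgHom.ext fun x => sub_eq_zero.1 (IsHausdorff.haus (I := maximalIdeal Bh) inferInstance _ fun n => ?_)
    rw [SModEq.zero, smul_eq_mul, Ideal.mul_top]
    obtain ⟨b, hb⟩ := Ideal.Quotient.mk_surjective (AdicCompletion.evalₐ (maximalIdeal B) n x)
    have h1 : vh x - v b ∈ maximalIdeal C ^ n := by
      rw [← Ideal.Quotient.eq, IsAdicComplete.mk_liftAlgHom]
      simp only [f, AlgHom.comp_apply, AlgHom.restrictScalars_apply, ← hb]
      rfl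
    have h2 : x - algebraMap B Bh b ∈ maximalIdeal Bh ^ n := by
      rw [AdicCompletion.maximalIdeal_eq_map (R := B)]
      have h3 : x - algebraMap B Bh b ∈ RingHom.ker (AdicCompletion.evalₐ (maximalIdeal B) n).toRingHom := by
        rw [RingHom.mem_ker]
        show AdicCompletion.evalₐ (maximalIdeal B) n (x - algebraMap B Bh b) = 0
        rw [map_sub, AlgHom.commutes, ← hb, Ideal.Quotient.algebraMap_eq, sub_self]
      exact (GrothLib.AdicFS.ker_evalₐ (maximalIdeal B).fg_of_isNoetherianRing n).le h3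
    rw [AlgHom.comp_apply, AlgHom.id_apply, show π (vh x) - x = π (vh x - v b) - (x - algebraMap B Bh b) by
      rw [map_sub, hv]; ring]
    exact sub_mem (hπm n h1) h2
  haveI : Module.Flat A Bh :=
    Module.Flat.of_retract vh.toLinearMap π.toLinearMap (LinearMap.ext fun x => AlgHom.congr_fun hsec x)
  haveI : Module.FaithfullyFlat B Bh := Module.FaithfullyFlat.of_flat_of_isLocalHom
  exact GrothLib.CMMor6.flat_of_faithfullyFlat_comp (A := A) (B := B) (C := Bh)

end GrothLib.AdicFSFlat
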