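import Groth.Agent.Lib.AdicFSFlat.Flat
import Groth.Agent.Lib.AdicFSLoc.FlatFibre
import Groth.Agent.Lib.GRingComplete.Cases
import Groth.Agent.S4512

/-!
# Formally smooth lifts over power series rings with coefficient rings (EGA 0_IV 19.7.2)
-/

universe u

open IsLocalRing

namespace GrothLib.AdicFSFlat

/-- Transport of adic formal smoothness along an isomorphism of local algebras. -/
theorem adicFormallySmooth_of_algEquiv {R S S' : Type u} [CommRing R] [CommRing S] [CommRing S'] [Algebra R S]
    [Algebra R S'] {n : Ideal S} {n' : Ideal S'} (e : S ≃ₐ[R] S') (hn : n.map e ≤ n')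
    (h : CAlgX.IsAdicFormallySmooth R S n) : CAlgX.IsAdicFormallySmooth R S' n' := by
  intro C _ _ J hJ ψ ⟨t, ht⟩
  obtain ⟨χ, hχ⟩ := h C J hJ (ψ.comp e.toAlgHom) ⟨t, fun x hx =>
    ht _ (Ideal.pow_right_mono hn t (by rw [← Ideal.map_pow]; exact Ideal.mem_map_of_mem _ hx))⟩
  refine ⟨χ.comp e.symm.toAlgHom, AlgHom.ext fun x => ?_⟩
  have := AlgHom.congr_fun hχ (e.symm x)
  simpa using this

/-- A change of base along a bijection of the base does not matter. -/
theorem adicFormallySmooth_of_base_equiv {R R' S : Type u} [CommRing R] [CommRing R'] [CommRing S] [Algebra R S]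
    [Algebra R' S] (f : R →+* R') (hf : Function.Bijective f)
    (hc : ∀ r, algebraMap R' S (f r) = algebraMap R S r) {n : Ideal S}
    (h : CAlgX.IsAdicFormallySmooth R' S n) : CAlgX.IsAdicFormallySmooth R S n := by
  intro C _ _ J hJ ψ hψ
  let e := RingEquiv.ofBijective f hf
  letI : Algebra R' C := ((algebraMap R C).comp e.symm.toRingHom).toAlgebra
  have hψc : ∀ r', ψ (algebraMap R' S r') = algebraMap R' (C ⧸ J) r' := fun r' => by
    obtain ⟨r, rfl⟩ := hf.2 r'
    rw [hc, ψ.commutes]
    show Ideal.Quotient.mk J (algebraMap R C r) = Ideal.Quotient.mk J (algebraMap R C (e.symm (f r)))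
    rw [show e.symm (f r) = r from e.symm_apply_apply r]
  obtain ⟨χ, hχ⟩ := h C J hJ { ψ.toRingHom with commutes' := hψc } hψ
  refine ⟨{ χ.toRingHom with commutes' := fun r => ?_ }, AlgHom.ext fun x => AlgHom.congr_fun hχ x⟩
  show χ (algebraMap R S r) = algebraMap R C r
  rw [← hc, χ.commutes]
  show algebraMap R C (e.symm (f r)) = _
  rw [show e.symm (f r) = r from e.symm_apply_apply r]

/-- The data of a coefficient ring: a field, or a Cohen ring. -/
def IsBase (q a : ℕ) (Λ : Type u) [CommRing Λ] [IsLocalRing Λ] : Prop :=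
  IsAdicComplete (maximalIdeal Λ) Λ ∧ IsNoetherianRing Λ ∧
    Ideal.span (Set.range fun _ : Fin a => (q : Λ)) = maximalIdeal Λ ∧
    ∀ d : ℕ, IsRegularLocalRing (MvPowerSeries (Fin d) Λ) ∧
      (maximalIdeal (MvPowerSeries (Fin d) Λ)).spanFinrank = d + a

theorem isBase_field (k : Type u) [Field k] (q : ℕ) : IsBase q 0 k := by
  refine ⟨by rw [IsLocalRing.maximalIdeal_eq_bot]; infer_instance, inferInstance,
    by simp [IsLocalRing.maximalIdeal_eq_bot], fun d => ?_⟩
  have hreg := GrothLib.RegLoc.PS.isRegularLocalRing k (d := d)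
  refine ⟨hreg, ?_⟩
  have h1 := IsRegularLocalRing.spanFinrank_maximalIdeal (R := MvPowerSeries (Fin d) k)
  have h2 := GrothLib.RegLoc.PS.natCast_le_ringKrullDim k d
  rw [← h1] at h2
  have h3 : (maximalIdeal (MvPowerSeries (Fin d) k)).spanFinrank ≤ d :=
    GrothLib.RegLoc.spanFinrank_le_of_span _ (GrothLib.RegLoc.PS.span_X k)
  norm_cast at h2
  omega

theorem isBase_cohen (W : Type u) [CommRing W] [IsLocalRing W] (hW : CAlg.IsCohenRing W) (p : ℕ) (hp : p.Prime)
    (hm : maximalIdeal W = Ideal.span {(p : W)}) : IsBase p 1 W := by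
  obtain ⟨-, hc, hn, a, t, ht, ha, hspan, hreg⟩ := GrothLib.CIPres.isCoeff_cohen W hW p hp hm
  rw [if_neg hp.ne_zero] at ha
  subst ha ht
  exact ⟨hc, hn, hspan, hreg⟩

/-- Lifting a regular complete algebra over the residue field of a power series ring to a flat one. -/
theorem exists_flat_lift {Λ : Type u} [CommRing Λ] [IsLocalRing Λ] (d : ℕ)
    (hΛ : IsField Λ ∨ CAlg.IsCohenRing Λ)
    [IsLocalRing (MvPowerSeries (Fin d) Λ)]
    (B0 : Type u) [CommRing B0] [IsRegularLocalRing B0] [IsAdicComplete (maximalIdeal B0) B0]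
    [Algebra (MvPowerSeries (Fin d) Λ) B0]
    (h0 : ∀ x ∈ maximalIdeal (MvPowerSeries (Fin d) Λ), algebraMap _ B0 x = 0) :
    ∃ (Q : Type u) (_ : CommRing Q) (_ : IsRegularLocalRing Q) (_ : Algebra (MvPowerSeries (Fin d) Λ) Q)
      (π : Q →ₐ[MvPowerSeries (Fin d) Λ] B0), IsAdicComplete (maximalIdeal Q) Q ∧
        IsLocalHom (algebraMap (MvPowerSeries (Fin d) Λ) Q) ∧
        Module.Flat (MvPowerSeries (Fin d) Λ) Q ∧ Function.Surjective π ∧
        RingHom.ker π.toRingHom = (maximalIdeal (MvPowerSeries (Fin d) Λ)).map (algebraMap _ Q) := by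
  classical
  let R := MvPowerSeries (Fin d) Λ
  haveI : IsDomain B0 := GrothLib.CMFree.isDomain_of_isRegularLocalRing B0
  let k := ResidueField R
  letI : Algebra k B0 := (Ideal.Quotient.lift (maximalIdeal R) (algebraMap R B0) h0).toAlgebra
  obtain ⟨n, ⟨e⟩⟩ := Groth.Agent.S4512.exists_ringEquiv k B0
  let K := ResidueField B0
  let e' : B0 ≃+* MvPowerSeries (Fin n) K :=
    (AdicCompletion.ofAlgEquiv (maximalIdeal B0)).toRingEquiv.trans e
  have hn : ringKrullDim B0 = n := by
    rw [ringKrullDim_eq_of_ringEquiv e', ← IsRegularLocalRing.spanFinrank_maximalIdeal (R := MvPowerSeries (Fin n) K)]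
    exact_mod_cast (isBase_field K 0).2.2.2 n |>.2
  let i0 : Λ →+* B0 := (algebraMap R B0).comp MvPowerSeries.C
  let u0 : Λ →+* MvPowerSeries (Fin n) K := e'.toRingHom.comp i0
  -- the coefficient ring upstairs and the lift of the base
  obtain ⟨a, q, hbase, W', _, _, hbase', ρ, hρs, hv⟩ : ∃ (a q : ℕ) (_ : IsBase q a Λ) (W' : Type u)
      (_ : CommRing W') (_ : IsLocalRing W') (_ : IsBase q a W') (ρ : W' →+* K) (_ : Function.Surjective ρ),
      ∀ (ψ : MvPowerSeries (Fin (d + n)) W' →+* MvPowerSeries (Fin n) K), Function.Surjective ψ →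
        (∀ c, ψ (MvPowerSeries.C c) = MvPowerSeries.C (ρ c)) →
        (∀ i : Fin d, ψ (MvPowerSeries.X (Fin.castAdd n i)) = 0) →
        (∀ i : Fin n, ψ (MvPowerSeries.X (Fin.natAdd d i)) = MvPowerSeries.X i) →
        ∃ w : Λ →+* MvPowerSeries (Fin (d + n)) W', ψ.comp w = u0 := by
    rcases hΛ with hF | hC
    · letI := hF.toField
      refine ⟨0, 0, isBase_field Λ 0, K, inferInstance, inferInstance, isBase_field K 0, RingHom.id K,
        Function.surjective_id, fun ψ hψ hC' hX0 hXn => ?_⟩
      haveI := (isBase_field K 0).1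
      haveI : IsAdicComplete (maximalIdeal (MvPowerSeries (Fin (d + n)) K)) (MvPowerSeries (Fin (d + n)) K) :=
        GrothLib.RegLoc.PS.isAdicComplete K
      obtain ⟨sec, hsec⟩ := GrothLib.RegLoc.PS.exists_algHom (A := K) (maximalIdeal (MvPowerSeries (Fin (d + n)) K))
        (fun i : Fin n => (MvPowerSeries.X (Fin.natAdd d i) : MvPowerSeries (Fin (d + n)) K))
        (fun i => GrothLib.RegLoc.PS.X_mem K _)
      refine ⟨sec.toRingHom.comp u0, ?_⟩
      have hid : ψ.comp sec.toRingHom = RingHom.id _ := by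
        refine GrothLib.CIPres.psHom_ext _ _ (fun i => ?_) (RingHom.ext fun c => ?_) fun i => ?_
        · rw [RingHom.comp_apply, show sec.toRingHom (MvPowerSeries.X i) = _ from hsec i, hXn]
          exact GrothLib.RegLoc.PS.X_mem K i
        · simp only [RingHom.comp_apply, RingHom.id_apply]
          rw [show sec.toRingHom (MvPowerSeries.C c) = MvPowerSeries.C c from sec.commutes c, hC']
          rfl
        · rw [RingHom.comp_apply, show sec.toRingHom (MvPowerSeries.X i) = _ from hsec i, hXn, RingHom.id_apply]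
      rw [← RingHom.comp_assoc, hid, RingHom.id_comp]
    · obtain ⟨hd', hv', hc', p, hp, hm⟩ := hC
      haveI := hv'
      have hu0p : (p : MvPowerSeries (Fin n) K) = 0 := by
        have hpm : MvPowerSeries.C (σ := Fin d) (p : Λ) ∈ maximalIdeal R := by
          rw [IsLocalRing.mem_maximalIdeal, mem_nonunits_iff, MvPowerSeries.isUnit_iff_constantCoeff,
            MvPowerSeries.constantCoeff_C]
          exact (IsLocalRing.mem_maximalIdeal _).1 (hm ▸ Ideal.mem_span_singleton_self _)
        rw [← map_natCast u0]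
        show e' (algebraMap R B0 (MvPowerSeries.C (p : Λ))) = 0
        rw [h0 _ hpm, map_zero]
      haveI : CharP K p := (CharP.charP_iff_prime_eq_zero hp).2 (by
        rw [← map_natCast (MvPowerSeries.constantCoeff (σ := Fin n) (R := K)), hu0p, map_zero])
      obtain ⟨W', _, _, hW', ⟨eW⟩⟩ := GrothLib.Cohen.exists_cohenRing p hp K
      obtain ⟨hd'', hv'', hc'', p', hp', hm'⟩ := hW'
      obtain rfl : p' = p := by
        have h1 : (p' : K) = 0 := by
          rw [← map_natCast eW, ← map_natCast (residue W'), (residue_eq_zero_iff _).2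
            (hm' ▸ Ideal.subset_span rfl), map_zero]
        exact ((Nat.prime_dvd_prime_iff_eq hp hp').1 ((CharP.cast_eq_zero_iff _ p p').1 h1)).symm
      have hb := isBase_cohen Λ ⟨hd', hv', hc', p', hp, hm⟩ p' hp hm
      have hb' := isBase_cohen W' ⟨hd'', hv'', hc'', p', hp', hm'⟩ p' hp' hm'
      refine ⟨1, p', hb, W', inferInstance, inferInstance, hb', eW.toRingHom.comp (residue W'),
        eW.surjective.comp residue_surjective, fun ψ hψ _ _ _ => ?_⟩
      · haveI := hb'.2.1
        haveI := hb'.1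
        haveI := (hb'.2.2.2 (d + n)).1
        haveI : IsAdicComplete (maximalIdeal (MvPowerSeries (Fin (d + n)) W')) (MvPowerSeries (Fin (d + n)) W') :=
          GrothLib.HLVT.isAdicComplete_powerSeries W' (d + n)
        let eψ : MvPowerSeries (Fin (d + n)) W' ⧸ RingHom.ker ψ ≃+* MvPowerSeries (Fin n) K :=
          RingHom.quotientKerEquivOfSurjective hψ
        haveI : Nontrivial (MvPowerSeries (Fin (d + n)) W' ⧸ RingHom.ker ψ) := eψ.toEquiv.nontrivial
        haveI : IsLocalRing (MvPowerSeries (Fin (d + n)) W' ⧸ RingHom.ker ψ) :=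
          IsLocalRing.of_surjective' _ Ideal.Quotient.mk_surjective
        let u : Λ →+* MvPowerSeries (Fin (d + n)) W' ⧸ RingHom.ker ψ := eψ.symm.toRingHom.comp u0
        haveI : IsLocalHom u := ((local_hom_TFAE u).out 2 0 rfl rfl).mp (by
          rw [hm, Ideal.map_span, Set.image_singleton, Ideal.span_singleton_le_iff_mem, map_natCast]
          have : (p' : MvPowerSeries (Fin (d + n)) W' ⧸ RingHom.ker ψ) = 0 :=
            eψ.injective (by rw [map_natCast, map_zero, hu0p])
          rw [this]; exact zero_mem _)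
        obtain ⟨w, -, hw⟩ := Groth.Agent.S2456.result (Or.inr ⟨hd', hv', hc', p', hp, hm⟩) (RingHom.ker ψ)
          (RingHom.ker_ne_top ψ) u
        refine ⟨w, RingHom.ext fun x => ?_⟩
        have := congrArg eψ (RingHom.congr_fun hw x)
        simpa [u, eψ] using this
  obtain ⟨hΛc, hΛn, hmW, hregW⟩ := hbase
  obtain ⟨hWc, hWn, hmW', hregW'⟩ := hbase'
  let S := MvPowerSeries (Fin (d + n)) W'
  obtain ⟨hRreg, hRdim⟩ := hregW d
  obtain ⟨hSreg, hSdim⟩ := hregW' (d + n)
  haveI := hWc
  haveI : IsAdicComplete (maximalIdeal S) S := GrothLib.HLVT.isAdicComplete_powerSeries W' (d + n)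
  -- the surjection
  haveI : IsAdicComplete (maximalIdeal (MvPowerSeries (Fin n) K)) (MvPowerSeries (Fin n) K) :=
    GrothLib.RegLoc.PS.isAdicComplete K
  let b : Fin (d + n) → MvPowerSeries (Fin n) K := Fin.append (fun _ => 0) MvPowerSeries.X
  have hb : Ideal.span (Set.range b) = maximalIdeal (MvPowerSeries (Fin n) K) := by
    refine le_antisymm (Ideal.span_le.2 ?_) ?_
    · rintro _ ⟨i, rfl⟩
      refine Fin.addCases (fun i => ?_) (fun l => ?_) i
      · simp [b]
      · rw [show b (Fin.natAdd d l) = _ from Fin.append_right _ _ _]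
        exact GrothLib.RegLoc.PS.X_mem K l
    · rw [← GrothLib.RegLoc.PS.span_X]
      exact Ideal.span_mono (by rintro _ ⟨l, rfl⟩; exact ⟨Fin.natAdd d l, Fin.append_right _ _ _⟩)
  obtain ⟨ψ, hψs, hψC, hψX⟩ := GrothLib.CIPres.exists_surjective_ext ((MvPowerSeries.C).comp ρ) (fun z => by
    obtain ⟨f, rfl⟩ := residue_surjective z
    obtain ⟨c, hc⟩ := hρs (MvPowerSeries.constantCoeff f)
    refine ⟨c, Ideal.Quotient.eq.2 ((GrothLib.RegLoc.PS.mem_max K).2 ?_)⟩
    simp [hc]) b hb
  obtain ⟨w, hw⟩ := hv ψ hψs (fun c => RingHom.congr_fun hψC c)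
    (fun i => by rw [hψX]; exact Fin.append_left _ _ _) (fun i => by rw [hψX]; exact Fin.append_right _ _ _)
  letI : Algebra Λ S := w.toAlgebra
  obtain ⟨θ, hθ⟩ := GrothLib.RegLoc.PS.exists_algHom (A := Λ) (maximalIdeal S)
    (fun i : Fin d => (MvPowerSeries.X (Fin.castAdd n i) : S)) (fun i => by
      rw [IsLocalRing.mem_maximalIdeal, mem_nonunits_iff, MvPowerSeries.isUnit_iff_constantCoeff]
      simp)
  letI : Algebra R S := θ.toRingHom.toAlgebra
  have hθC : ∀ c, algebraMap R S (MvPowerSeries.C c) = w c := fun c => θ.commutes c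
  have hy : (fun i => algebraMap R S (Fin.append (MvPowerSeries.X : Fin d → R)
      (fun _ : Fin a => MvPowerSeries.C (q : Λ)) i)) =
      Fin.append (fun i => (MvPowerSeries.X (Fin.castAdd n i) : S)) (fun _ => MvPowerSeries.C (q : W')) := by
    funext i
    refine Fin.addCases (fun i => ?_) (fun j => ?_) i
    · rw [Fin.append_left, Fin.append_left]
      exact hθ i
    · rw [Fin.append_right, Fin.append_right, hθC, map_natCast, map_natCast]
  have hmR := GrothLib.CIPres.maximalIdeal_powerSeries (d := d) _ hmW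
  have hmS : Ideal.span (Set.range (Fin.append (fun i => algebraMap R S
      (Fin.append (MvPowerSeries.X : Fin d → R) (fun _ : Fin a => MvPowerSeries.C (q : Λ)) i))
      (fun l : Fin n => (MvPowerSeries.X (Fin.natAdd d l) : S)))) = maximalIdeal S := by
    rw [← GrothLib.CIPres.maximalIdeal_powerSeries (d := d + n) _ hmW', hy]
    congr 1
    ext z
    constructor
    · rintro ⟨i, rfl⟩
      refine Fin.addCases (fun i => ?_) (fun l => ?_) i
      · rw [Fin.append_left]
        refine Fin.addCases (fun i => ?_) (fun j => ?_) i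
        · exact ⟨Fin.castAdd a (Fin.castAdd n i), by simp⟩
        · exact ⟨Fin.natAdd (d + n) j, by simp⟩
      · exact ⟨Fin.castAdd a (Fin.natAdd d l), by simp⟩
    · rintro ⟨i, rfl⟩
      refine Fin.addCases (fun i => ?_) (fun j => ?_) i
      · refine Fin.addCases (fun i => ?_) (fun l => ?_) i
        · exact ⟨Fin.castAdd n (Fin.castAdd a i), by simp⟩
        · exact ⟨Fin.natAdd (d + a) l, by simp⟩
      · exact ⟨Fin.castAdd n (Fin.natAdd d j), by simp⟩
  obtain ⟨hloc, hflat, hfib⟩ := GrothLib.CIPres.flat_and_regular_fibre _ _ hmR hRdim hmS (by rw [hSdim]; omega)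
  -- compatibility
  have hcomp : ψ.comp (algebraMap R S) = e'.toRingHom.comp (algebraMap R B0) := by
    refine GrothLib.CIPres.psHom_ext _ _ (fun i => ?_) (RingHom.ext fun c => ?_) fun i => ?_
    · rw [RingHom.comp_apply, show algebraMap R S (MvPowerSeries.X i) = _ from hθ i, hψX,
        show b (Fin.castAdd n i) = _ from Fin.append_left _ _ _]
      exact zero_mem _
    · simp only [RingHom.comp_apply, hθC]
      exact RingHom.congr_fun hw c
    · rw [RingHom.comp_apply, RingHom.comp_apply, show algebraMap R S (MvPowerSeries.X i) = _ from hθ i, hψX,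
        show b (Fin.castAdd n i) = _ from Fin.append_left _ _ _,
        h0 _ (hmR ▸ Ideal.subset_span ⟨Fin.castAdd a i, Fin.append_left _ _ _⟩), map_zero]
  let π : S →ₐ[R] B0 :=
    { e'.symm.toRingHom.comp ψ with
      commutes' := fun r => e'.injective (by
        show e' (e'.symm (ψ (algebraMap R S r))) = e' (algebraMap R B0 r)
        rw [e'.apply_symm_apply]
        exact RingHom.congr_fun hcomp r) }
  have hπs : Function.Surjective π := fun y => by
    obtain ⟨s, hs⟩ := hψs (e' y)
    exact ⟨s, by show e'.symm (ψ s) = y; rw [hs, e'.symm_apply_apply]⟩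
  refine ⟨S, inferInstance, hSreg, inferInstance, π, inferInstance, hloc, hflat, hπs, ?_⟩
  set N := (maximalIdeal R).map (algebraMap R S) with hN
  have hNker : N ≤ RingHom.ker π.toRingHom := Ideal.map_le_iff_le_comap.2 fun r hr => by
    show π (algebraMap R S r) = 0
    rw [π.commutes, h0 r hr]
  refine le_antisymm ?_ hNker
  haveI := hfib
  haveI : IsDomain (S ⧸ N) := GrothLib.CMFree.isDomain_of_isRegularLocalRing _
  let g : S ⧸ N →+* B0 := Ideal.Quotient.lift N π.toRingHom fun x hx => hNker hx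
  have hgs : Function.Surjective g := fun y => by
    obtain ⟨s, rfl⟩ := hπs y
    exact ⟨Ideal.Quotient.mk N s, rfl⟩
  have hdim : ringKrullDim (S ⧸ N) ≤ n := by
    rw [← IsRegularLocalRing.spanFinrank_maximalIdeal (R := S ⧸ N), ← GrothLib.RegLoc.map_maximalIdeal_quotient N,
      ← hmS, Ideal.map_span]
    refine Nat.cast_le.2 ?_
    have hsub : Ideal.span (Ideal.Quotient.mk N '' Set.range (Fin.append (fun i => algebraMap R S
        (Fin.append (MvPowerSeries.X : Fin d → R) (fun _ : Fin a => MvPowerSeries.C (q : Λ)) i))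
        (fun l : Fin n => (MvPowerSeries.X (Fin.natAdd d l) : S)))) =
        Ideal.span (Set.range fun l : Fin n => Ideal.Quotient.mk N (MvPowerSeries.X (Fin.natAdd d l) : S)) := by
      refine le_antisymm (Ideal.span_le.2 ?_) (Ideal.span_mono ?_)
      · rintro _ ⟨_, ⟨i, rfl⟩, rfl⟩
        refine Fin.addCases (fun i => ?_) (fun l => ?_) i
        · rw [Fin.append_left, Ideal.Quotient.eq_zero_iff_mem.2
            (Ideal.mem_map_of_mem _ (hmR ▸ Ideal.subset_span ⟨i, rfl⟩))]
          exact zero_mem _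
        · rw [Fin.append_right]
          exact Ideal.subset_span ⟨l, rfl⟩
      · rintro _ ⟨l, rfl⟩
        exact ⟨_, ⟨Fin.natAdd (d + a) l, Fin.append_right _ _ _⟩, rfl⟩
    rw [hsub]
    refine (Submodule.spanFinrank_span_le_ncard_of_finite (Set.finite_range _)).trans ?_
    rw [← Set.image_univ]
    exact (Set.ncard_image_le Set.finite_univ).trans (by simp [Set.ncard_univ])
  intro s hs
  rw [← Ideal.Quotient.eq_zero_iff_mem]
  by_contra hne
  have h1 := ringKrullDim_succ_le_of_surjective g hgs (r := Ideal.Quotient.mk N s)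
    (mem_nonZeroDivisors_of_ne_zero hne) hs
  rw [hn] at h1
  have h2 := h1.trans hdim
  norm_cast at h2
  omega

end GrothLib.AdicFSFlat
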